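import Groth.Agent.DispLib.IV
import Mathlib.RingTheory.WittVector.Truncated
import Mathlib.RingTheory.AdicCompletion.Basic

/-! `W(R)` is `p`-adically and `IV`-adically complete when `R` is `p`-adically complete. -/

namespace Groth.Agent.DispLib

open W4c1extbt610

variable {p : ℕ} [hp : Fact p.Prime] {R : Type*} [CommRing R]

theorem isAdicComplete_of_isNilpotent (hpn : IsNilpotent (p : R)) : IsAdicComplete (Ideal.span {(p : R)}) R := by
  obtain ⟨e, he⟩ := hpn
  have hbot : ∀ k, e ≤ k → Ideal.span {(p : R)} ^ k = ⊥ := fun k hk => by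
    rw [Ideal.span_singleton_pow, pow_eq_zero_of_le hk he, Ideal.span_singleton_eq_bot]
  refine { haus' := fun x hx => ?_, prec' := fun f hf => ⟨f e, fun n => ?_⟩ }
  · simpa [hbot e le_rfl, SModEq.sub_mem] using hx e
  · rcases le_total n e with h | h
    · exact hf h
    · have := hf h
      rw [hbot e le_rfl, Submodule.bot_smul, SModEq.bot] at this
      rw [this]

theorem coeff_p_pow_mul_eq_zero {A : Type*} [CommRing A] {m : ℕ} (hm : (p : A) ^ m = 0) :
    ∀ (n : ℕ) (x : WittVector p A) (i : ℕ), i < n → ((p : WittVector p A) ^ (m * n) * x).coeff i = 0 := by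
  intro n
  induction n with
  | zero => intro x i hi; omega
  | succ n ih =>
    intro x i hi
    have hx := WittVector.eq_iterate_verschiebung (n := n) (x := (p : WittVector p A) ^ (m * n) * x) (ih x)
    obtain ⟨w, hw⟩ : ∃ w, (p : WittVector p A) ^ (m * n) * x = (⇑WittVector.verschiebung)^[n] w := ⟨_, hx⟩
    rw [Nat.mul_succ, pow_add, mul_comm ((p : WittVector p A) ^ (m * n)), mul_assoc, hw, ← Nat.cast_pow,
      ← nsmul_eq_mul, ← iterate_map_nsmul, nsmul_eq_mul, Nat.cast_pow]
    rcases Nat.lt_succ_iff_lt_or_eq.1 hi with h | rfl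
    · exact WittVector.iterate_verschiebung_coeff_eq_zero _ h
    · have h0 := WittVector.iterate_verschiebung_coeff ((p : WittVector p A) ^ m * w) i 0
      rw [zero_add] at h0
      rw [h0]
      show WittVector.constantCoeff ((p : WittVector p A) ^ m * w) = 0
      rw [map_mul, map_pow, map_natCast, hm, zero_mul]

variable (p R) in
/-- `W(R) → W_n(R/p^m)` -/
noncomputable def ψ (n m : ℕ) : WittVector p R →+* TruncatedWittVector p n (R ⧸ Ideal.span {(p : R)} ^ m) :=
  (WittVector.truncate n).comp (WittVector.map (Ideal.Quotient.mk _))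

theorem ψ_eq_iff {n m : ℕ} {x y : WittVector p R} :
    ψ p R n m x = ψ p R n m y ↔ ∀ i < n, x.coeff i - y.coeff i ∈ Ideal.span {(p : R)} ^ m := by
  rw [TruncatedWittVector.ext_iff]
  simp only [ψ, RingHom.comp_apply, WittVector.coeff_truncate, WittVector.map_coeff, Ideal.Quotient.eq,
    Fin.forall_iff]

theorem ψ_p_pow {n m k : ℕ} (hk : m * n ≤ k) (x : WittVector p R) :
    ψ p R n m ((p : WittVector p R) ^ k * x) = 0 := by
  obtain ⟨d, rfl⟩ := Nat.exists_eq_add_of_le hk
  rw [pow_add, mul_assoc, ← map_zero (ψ p R n m), ψ_eq_iff]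
  intro i hi
  rw [WittVector.zero_coeff, sub_zero, ← Ideal.Quotient.eq_zero_iff_mem, ← WittVector.map_coeff, map_mul,
    map_pow, map_natCast]
  refine coeff_p_pow_mul_eq_zero ?_ n _ i hi
  rw [← map_natCast (Ideal.Quotient.mk _), ← map_pow, Ideal.Quotient.eq_zero_iff_mem]
  exact Ideal.pow_mem_pow (Ideal.mem_span_singleton_self _) m

variable [IsAdicComplete (Ideal.span {(p : R)}) R]

theorem ext_ψ {x y : WittVector p R} (h : ∀ n m, ψ p R n m x = ψ p R n m y) : x = y := by
  ext i
  refine sub_eq_zero.1 (IsHausdorff.haus (I := Ideal.span {(p : R)}) (M := R) inferInstance _ fun m => ?_)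
  rw [SModEq.sub_mem, sub_zero, smul_eq_mul, Ideal.mul_top]
  exact ψ_eq_iff.1 (h (i + 1) m) i (Nat.lt_succ_self i)

theorem ψ_sum_stable (a : ℕ → WittVector p R) {n m N : ℕ} (hN : m * n ≤ N) :
    ψ p R n m (∑ k ∈ Finset.range N, (p : WittVector p R) ^ k * a k) =
      ψ p R n m (∑ k ∈ Finset.range (m * n), (p : WittVector p R) ^ k * a k) := by
  rw [map_sum, map_sum]
  refine (Finset.sum_subset (Finset.range_mono hN) fun k _ hk => ψ_p_pow ?_ _).symm
  simpa using hk

/-- the series `∑ p^k a_k` converges in `W(R)` -/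
theorem exists_sum (a : ℕ → WittVector p R) :
    ∃ y : WittVector p R, ∀ n m, ψ p R n m y = ψ p R n m (∑ k ∈ Finset.range (m * n), (p : WittVector p R) ^ k * a k) := by
  let S : ℕ → WittVector p R := fun N => ∑ k ∈ Finset.range N, (p : WittVector p R) ^ k * a k
  have hlim : ∀ i, ∃ L : R, ∀ m, (S (m * (i + 1))).coeff i - L ∈ Ideal.span {(p : R)} ^ m := by
    intro i
    obtain ⟨L, hL⟩ := IsPrecomplete.prec (I := Ideal.span {(p : R)}) (M := R) inferInstance
      (f := fun m => (S (m * (i + 1))).coeff i) (fun {m m'} h => by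
        rw [SModEq.sub_mem, smul_eq_mul, Ideal.mul_top]
        have := ψ_sum_stable a (n := i + 1) (m := m) (Nat.mul_le_mul_right _ h)
        exact ψ_eq_iff.1 this.symm i (Nat.lt_succ_self i))
    refine ⟨L, fun m => ?_⟩
    have := hL m
    rwa [SModEq.sub_mem, smul_eq_mul, Ideal.mul_top] at this
  choose L hL using hlim
  refine ⟨WittVector.mk p L, fun n m => ψ_eq_iff.2 fun i hi => ?_⟩
  have h1 := hL i m
  have h2 := ψ_eq_iff.1 (ψ_sum_stable a (n := i + 1) (m := m) (Nat.mul_le_mul_left m (Nat.succ_le_of_lt hi)))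
    i (Nat.lt_succ_self i)
  rw [← neg_mem_iff]
  simp only [WittVector.coeff_mk]
  have := add_mem h2 h1
  simpa [S] using this

/-- `∑ p^k a_k` -/
noncomputable def pSum (a : ℕ → WittVector p R) : WittVector p R := (exists_sum a).choose

theorem ψ_pSum (a : ℕ → WittVector p R) {n m N : ℕ} (hN : m * n ≤ N) :
    ψ p R n m (pSum a) = ψ p R n m (∑ k ∈ Finset.range N, (p : WittVector p R) ^ k * a k) := by
  rw [ψ_sum_stable a hN]
  exact (exists_sum a).choose_spec n m

theorem pSum_eq (a : ℕ → WittVector p R) (j : ℕ) :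
    pSum a = ∑ k ∈ Finset.range j, (p : WittVector p R) ^ k * a k + (p : WittVector p R) ^ j * pSum fun k => a (j + k) := by
  refine ext_ψ fun n m => ?_
  rw [ψ_pSum a (Nat.le_add_left (m * n) j), map_add, map_mul, ψ_pSum (fun k => a (j + k)) le_rfl, ← map_mul,
    ← map_add, Finset.sum_range_add, Finset.mul_sum]
  simp only [pow_add, mul_assoc]

theorem pSum_mem_IV (a : ℕ → WittVector p R) (ha : ∀ k, a k ∈ IV p R) : pSum a ∈ IV p R := by
  rw [IV_eq_ker, RingHom.mem_ker]
  refine IsHausdorff.haus (I := Ideal.span {(p : R)}) (M := R) inferInstance _ fun m => ?_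
  rw [SModEq.sub_mem, sub_zero, smul_eq_mul, Ideal.mul_top]
  have hS : (∑ k ∈ Finset.range (m * 1), (p : WittVector p R) ^ k * a k) ∈ IV p R :=
    sum_mem fun k _ => Ideal.mul_mem_left _ _ (ha k)
  rw [IV_eq_ker, RingHom.mem_ker] at hS
  have := ψ_eq_iff.1 (ψ_pSum a (le_refl (m * 1))) 0 zero_lt_one
  rwa [show (∑ k ∈ Finset.range (m * 1), (p : WittVector p R) ^ k * a k).coeff 0 = 0 from hS, sub_zero] at this

omit [IsAdicComplete (Ideal.span {(p : R)}) R] in
theorem IV_mul_self : IV p R * IV p R = Ideal.span {(p : WittVector p R)} * IV p R := by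
  have key : ∀ a b : WittVector p R, WittVector.verschiebung a * WittVector.verschiebung b =
      (p : WittVector p R) * WittVector.verschiebung (a * b) := fun a b => by
    rw [← WittVector.verschiebung_mul_frobenius, WittVector.frobenius_verschiebung, ← mul_assoc, mul_comm,
      ← nsmul_eq_mul, map_nsmul, nsmul_eq_mul]
  refine le_antisymm (Ideal.mul_le.2 fun x hx y hy => ?_) (Ideal.mul_le.2 fun x hx y hy => ?_)
  · obtain ⟨a, rfl⟩ := mem_IV_iff.1 hx
    obtain ⟨b, rfl⟩ := mem_IV_iff.1 hy
    rw [key]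
    exact Ideal.mul_mem_mul (Ideal.mem_span_singleton_self _) (verschiebung_mem_IV p R _)
  · obtain ⟨c, rfl⟩ := Ideal.mem_span_singleton'.1 hx
    obtain ⟨b, rfl⟩ := mem_IV_iff.1 hy
    rw [mul_assoc, show (p : WittVector p R) * WittVector.verschiebung b =
      WittVector.verschiebung 1 * WittVector.verschiebung b by rw [key, one_mul]]
    exact Ideal.mul_mem_left _ _ (Ideal.mul_mem_mul (verschiebung_mem_IV p R _) (verschiebung_mem_IV p R _))

omit [IsAdicComplete (Ideal.span {(p : R)}) R] in
theorem IV_pow_succ (k : ℕ) : IV p R ^ (k + 1) = Ideal.span {(p : WittVector p R) ^ k} * IV p R := by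
  induction k with
  | zero => simp
  | succ k ih =>
    rw [pow_succ, ih, mul_assoc, IV_mul_self, ← mul_assoc, Ideal.span_singleton_mul_span_singleton, ← pow_succ]

theorem isAdicComplete_witt_p : IsAdicComplete (Ideal.span {(p : WittVector p R)}) (WittVector p R) := by
  refine { haus' := fun x hx => ext_ψ fun n m => ?_, prec' := fun f hf => ?_ }
  · have := hx (m * n)
    rw [SModEq.sub_mem, sub_zero, smul_eq_mul, Ideal.mul_top, Ideal.span_singleton_pow,
      Ideal.mem_span_singleton'] at this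
    obtain ⟨c, rfl⟩ := this
    rw [mul_comm c, ψ_p_pow le_rfl, map_zero]
  · have : ∀ k, ∃ a, f (k + 1) - f k = (p : WittVector p R) ^ k * a := fun k => by
      have := hf (Nat.le_succ k)
      rw [SModEq.sub_mem, smul_eq_mul, Ideal.mul_top, Ideal.span_singleton_pow, ← neg_mem_iff, neg_sub,
        Ideal.mem_span_singleton] at this
      exact this
    choose a ha using this
    refine ⟨f 0 + pSum a, fun n => ?_⟩
    rw [SModEq.sub_mem, smul_eq_mul, Ideal.mul_top, Ideal.span_singleton_pow, Ideal.mem_span_singleton]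
    refine ⟨-pSum fun k => a (n + k), ?_⟩
    rw [pSum_eq a n, Finset.sum_congr rfl fun k _ => (ha k).symm, Finset.sum_range_sub]
    ring

theorem isAdicComplete_IV : IsAdicComplete (IV p R) (WittVector p R) := by
  refine { haus' := fun x hx => ext_ψ fun n m => ?_, prec' := fun f hf => ?_ }
  · have := hx (m * n + 1)
    rw [SModEq.sub_mem, sub_zero, smul_eq_mul, Ideal.mul_top, IV_pow_succ, Ideal.mem_span_singleton_mul] at this
    obtain ⟨c, -, rfl⟩ := this
    rw [ψ_p_pow le_rfl, map_zero]
  · have : ∀ k, ∃ a ∈ IV p R, (p : WittVector p R) ^ k * a = f (k + 2) - f (k + 1) := fun k => by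
      have := hf (Nat.le_succ (k + 1))
      rw [SModEq.sub_mem, smul_eq_mul, Ideal.mul_top, IV_pow_succ, ← neg_mem_iff, neg_sub,
        Ideal.mem_span_singleton_mul] at this
      exact this
    choose a ha hae using this
    refine ⟨f 1 + pSum a, fun n => ?_⟩
    rw [SModEq.sub_mem, smul_eq_mul, Ideal.mul_top]
    rcases n with _ | n
    · simp
    · rw [IV_pow_succ, Ideal.mem_span_singleton_mul]
      refine ⟨-pSum fun k => a (n + k), neg_mem (pSum_mem_IV _ fun k => ha _), ?_⟩
      rw [pSum_eq a n, Finset.sum_congr rfl fun k _ => hae k, Finset.sum_range_sub (fun k => f (k + 1))]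
      ring

theorem IV_le_jacobson : IV p R ≤ (⊥ : Ideal (WittVector p R)).jacobson :=
  have := isAdicComplete_IV (p := p) (R := R)
  IsAdicComplete.le_jacobson_bot _

theorem span_p_le_jacobson : Ideal.span {(p : WittVector p R)} ≤ (⊥ : Ideal (WittVector p R)).jacobson :=
  have := isAdicComplete_witt_p (p := p) (R := R)
  IsAdicComplete.le_jacobson_bot _

end Groth.Agent.DispLib
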