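import Mathlib.RingTheory.Nakayama
import Mathlib.RingTheory.AdicCompletion.Basic
import Mathlib.Algebra.Module.Projective
import Mathlib.LinearAlgebra.Matrix.Charpoly.LinearMap
import Mathlib.LinearAlgebra.Projection
import Mathlib.Algebra.Module.Torsion.Basic
import Mathlib.LinearAlgebra.Basis.VectorSpace
import Mathlib.Tactic.NoncommRing

/-! Direct summand criteria for finitely generated projective modules. -/

namespace Groth.Agent.DispLib

variable {A : Type*} [CommRing A] {M : Type*} [AddCommGroup M] [Module A M]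

/-- A finitely generated submodule `N` of a projective module with `N ∩ 𝔪 M ⊆ 𝔪 N` for all maximal
ideals `𝔪` is a direct summand. -/
theorem exists_isCompl_of_pure [Module.Projective A M] (N : Submodule A M) (hN : N.FG)
    (h : ∀ 𝔪 : Ideal A, 𝔪.IsMaximal → N ⊓ 𝔪 • ⊤ ≤ 𝔪 • N) :
    ∃ C : Submodule A M, IsCompl N C := by
  have : Module.Finite A N := Module.Finite.iff_fg.2 hN
  let S : Submodule A (N →ₗ[A] N) :=
    LinearMap.range ((LinearMap.lcomp A N N.subtype) : (M →ₗ[A] N) →ₗ[A] (N →ₗ[A] N))
  let T : Ideal A := S.comap (LinearMap.toSpanSingleton A (N →ₗ[A] N) LinearMap.id)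
  have hT : T = ⊤ := by
    by_contra hne
    obtain ⟨𝔪, hm, hle⟩ := Ideal.exists_le_maximal T hne
    let _ := Ideal.Quotient.field 𝔪
    -- a left inverse over the residue field
    let j : (N ⧸ (𝔪 • (⊤ : Submodule A N))) →ₗ[A ⧸ 𝔪] (M ⧸ (𝔪 • (⊤ : Submodule A M))) :=
      LinearMap.extendScalarsOfSurjective (R := A) (S := A ⧸ 𝔪) Ideal.Quotient.mk_surjective
        (Submodule.mapQ (𝔪 • (⊤ : Submodule A N)) (𝔪 • (⊤ : Submodule A M)) N.subtype (by
          rw [← Submodule.map_le_iff_le_comap, Submodule.map_smul'', Submodule.map_top, Submodule.range_subtype]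
          exact Submodule.smul_mono le_rfl le_top))
    have hj : LinearMap.ker j = ⊥ := by
      rw [LinearMap.ker_eq_bot']
      intro x hx
      induction x using Submodule.Quotient.induction_on with
      | H x =>
        have hx' : (x : M) ∈ (𝔪 • (⊤ : Submodule A M)) := by
          simpa [j, Submodule.Quotient.mk_eq_zero] using hx
        have := h 𝔪 hm ⟨x.2, hx'⟩
        rw [Submodule.Quotient.mk_eq_zero]
        show x ∈ 𝔪 • ⊤
        have h2 : N.subtype x ∈ Submodule.map N.subtype (𝔪 • (⊤ : Submodule A N)) := by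
          simpa [Submodule.map_smul'', Submodule.map_top] using this
        obtain ⟨y, hy, hxy⟩ := h2
        exact N.injective_subtype hxy ▸ hy
    obtain ⟨r, hr⟩ := LinearMap.exists_leftInverse_of_injective j hj
    obtain ⟨φ, hφ⟩ := Module.projective_lifting_property (𝔪 • (⊤ : Submodule A N)).mkQ ((r.restrictScalars A).comp (𝔪 • (⊤ : Submodule A M)).mkQ)
      (𝔪 • (⊤ : Submodule A N)).mkQ_surjective
    set g : N →ₗ[A] N := φ.comp N.subtype
    have hg : ∀ x, (LinearMap.id - g : N →ₗ[A] N) x ∈ (𝔪 • (⊤ : Submodule A N)) := by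
      intro x
      have h1 : (𝔪 • (⊤ : Submodule A N)).mkQ (g x) = (𝔪 • (⊤ : Submodule A N)).mkQ x := by
        have := LinearMap.congr_fun hφ (x : M)
        simp only [LinearMap.comp_apply] at this
        rw [show g x = φ x from rfl, this]
        exact LinearMap.congr_fun hr ((𝔪 • (⊤ : Submodule A N)).mkQ x)
      simp only [LinearMap.sub_apply, LinearMap.id_apply]
      exact (Submodule.Quotient.eq (𝔪 • (⊤ : Submodule A N))).1 h1.symm
    obtain ⟨P, hPm, -, hPc, hP0⟩ := LinearMap.exists_monic_and_natDegree_eq_and_coeff_mem_pow_and_aeval_eq_zero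
      A (LinearMap.id - g) 𝔪 (by rintro _ ⟨x, rfl⟩; exact hg x)
    -- `P(1) • id` factors through `g`
    obtain ⟨Q, hQ⟩ : ∃ Q : Polynomial A, P - Polynomial.C (P.eval 1) = (Polynomial.X - Polynomial.C 1) * Q :=
      Polynomial.dvd_iff_isRoot.2 (by simp)
    have hs : P.eval 1 • (LinearMap.id : N →ₗ[A] N) ∈ S := by
      rw [mul_comm] at hQ
      have := congrArg (Polynomial.aeval (LinearMap.id - g : Module.End A N)) hQ
      rw [map_sub, hP0, map_mul, map_sub, Polynomial.aeval_X, Polynomial.aeval_C, Polynomial.aeval_C,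
        map_one] at this
      refine ⟨(Polynomial.aeval (LinearMap.id - g : Module.End A N) Q).comp φ, ?_⟩
      refine LinearMap.ext fun x => ?_
      have h2 := LinearMap.congr_fun this x
      simp at h2
      simpa [g] using h2.symm
    have hs1 : P.eval 1 - 1 ∈ 𝔪 := by
      rw [Polynomial.eval_eq_sum_range, Finset.sum_range_succ, hPm.coeff_natDegree]
      simp only [one_pow, mul_one, add_sub_cancel_right]
      exact Submodule.sum_mem _ fun i hi =>
        Ideal.pow_le_self (Nat.sub_ne_zero_of_lt (Finset.mem_range.1 hi)) (hPc i)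
    have hsm : P.eval 1 ∈ 𝔪 := hle hs
    exact hm.ne_top ((Ideal.eq_top_iff_one _).2 (by simpa using sub_mem hsm hs1))
  obtain ⟨φ, hφ⟩ : (1 : A) • (LinearMap.id : N →ₗ[A] N) ∈ S := by
    have : (1 : A) ∈ T := hT ▸ Submodule.mem_top
    exact this
  exact ⟨LinearMap.ker φ, LinearMap.isCompl_of_proj fun x => by simpa using LinearMap.congr_fun hφ x⟩

theorem pi_apply_eq_sum {F : Type*} [Fintype F] [DecidableEq F] (π : (F → A) →ₗ[A] M) (v : F → A) :
    π v = ∑ i, v i • π (Pi.single i 1) := by
  conv_lhs => rw [pi_eq_sum_univ' v]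
  simp only [map_sum, map_smul]

theorem mem_smul_top_coords {F : Type*} [Fintype F] (π : (F → A) →ₗ[A] M) (s : M →ₗ[A] (F → A))
    (hs : π.comp s = LinearMap.id) (I : Ideal A) (x : M) :
    x ∈ I • (⊤ : Submodule A M) ↔ ∀ i, s x i ∈ I := by
  classical
  refine ⟨fun hx => ?_, fun hx => ?_⟩
  · refine Submodule.smul_induction_on hx (fun a ha y _ i => ?_) (fun u v hu hv i => ?_)
    · simpa using I.mul_mem_right _ ha
    · simpa using I.add_mem (hu i) (hv i)
  · have : x = ∑ i, s x i • π (Pi.single i 1) := by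
      conv_lhs => rw [show x = π (s x) from (LinearMap.congr_fun hs x).symm]
      rw [← pi_apply_eq_sum π]
    rw [this]
    exact Submodule.sum_mem _ fun i _ => Submodule.smul_mem_smul (hx i) Submodule.mem_top
theorem exists_retraction [Module.Finite A M] [Module.Projective A M] :
    ∃ (n : ℕ) (π : (Fin n → A) →ₗ[A] M) (s : M →ₗ[A] (Fin n → A)), π.comp s = LinearMap.id := by
  obtain ⟨n, π, hπ⟩ := Module.Finite.exists_fin' A M
  obtain ⟨s, hs⟩ := Module.projective_lifting_property π LinearMap.id hπ
  exact ⟨n, π, s, hs⟩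

theorem exists_idempotent_lift [Module.Finite A M] [Module.Projective A M] (I : Ideal A)
    [IsAdicComplete I A] (g : M →ₗ[A] M) (hg : ∀ x, g (g x) - g x ∈ I • (⊤ : Submodule A M)) :
    ∃ e : M →ₗ[A] M, (∀ x, e (e x) = e x) ∧ ∀ x, e x - g x ∈ I • (⊤ : Submodule A M) := by
  obtain ⟨n, π, s, hs⟩ := exists_retraction (A := A) (M := M)
  let e : ℕ → Module.End A M := fun k => Nat.rec (g : Module.End A M) (fun _ e => 3 * e ^ 2 - 2 * e ^ 3) k
  have he : ∀ k, e (k + 1) = 3 * e k ^ 2 - 2 * e k ^ 3 := fun k => rfl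
  have hmap : ∀ (J : Ideal A) (f : M →ₗ[A] M) {x}, x ∈ J • (⊤ : Submodule A M) →
      f x ∈ J • (LinearMap.range f) := by
    intro J f x hx
    rw [← Submodule.map_top, ← Submodule.map_smul'']
    exact Submodule.mem_map_of_mem hx
  have hd : ∀ k x, (e k ^ 2 - e k) x ∈ I ^ (k + 1) • (⊤ : Submodule A M) := by
    intro k
    induction k with
    | zero => intro x; simpa [sq, e] using hg x
    | succ k ih =>
      intro x
      have hsq : e (k + 1) ^ 2 - e (k + 1) = (e k ^ 2 - e k) * (e k ^ 2 - e k) * (4 * (e k ^ 2 - e k) - 3) := by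
        rw [he]; noncomm_ring
      rw [hsq, mul_assoc, Module.End.mul_apply]
      have h1 := hmap _ (e k ^ 2 - e k) (ih (((4 * (e k ^ 2 - e k) - 3 : Module.End A M)) x))
      have h2 : LinearMap.range (e k ^ 2 - e k) ≤ I • (⊤ : Submodule A M) := by
        rintro _ ⟨y, rfl⟩
        exact Submodule.smul_mono_left (Ideal.pow_le_self (by omega)) (ih y)
      refine (le_trans (Submodule.smul_mono le_rfl h2) (le_of_eq ?_)) h1
      rw [← Submodule.smul_assoc, smul_eq_mul, ← pow_succ]
  have hstep : ∀ k x, e (k + 1) x - e k x ∈ I ^ (k + 1) • (⊤ : Submodule A M) := by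
    intro k x
    have : e (k + 1) - e k = (e k ^ 2 - e k) * (1 - 2 * e k) := by rw [he]; noncomm_ring
    rw [← LinearMap.sub_apply, this]
    exact hd k _
  have hmono : ∀ k l, k ≤ l → ∀ x, e l x - e k x ∈ I ^ (k + 1) • (⊤ : Submodule A M) := by
    intro k l hkl
    induction l, hkl using Nat.le_induction with
    | base => intro x; simp
    | succ l hkl ih =>
      intro x
      rw [← sub_add_sub_cancel _ (e l x)]
      exact add_mem (Submodule.smul_mono_left (Ideal.pow_le_pow_right (by omega)) (hstep l x)) (ih x)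
  have hlim : ∀ x, ∃ y, ∀ k, e k x - y ∈ I ^ k • (⊤ : Submodule A M) := by
    intro x
    have : ∀ i, ∃ L : A, ∀ k, s (e k x) i - L ∈ I ^ k := by
      intro i
      obtain ⟨L, hL⟩ := IsPrecomplete.prec (I := I) (M := A) inferInstance
        (f := fun k => s (e k x) i) (fun {a b} hab => by
          rw [SModEq.sub_mem, smul_eq_mul, Ideal.mul_top]
          have := (mem_smul_top_coords π s hs _ _).1
            (Submodule.smul_mono_left (Ideal.pow_le_pow_right (Nat.le_succ a)) (hmono a b hab x)) i
          rw [map_sub, Pi.sub_apply] at this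
          rw [← neg_sub]
          exact neg_mem this)
      refine ⟨L, fun k => ?_⟩
      have := hL k
      rwa [SModEq.sub_mem, smul_eq_mul, Ideal.mul_top] at this
    choose L hL using this
    refine ⟨π L, fun k => ?_⟩
    have : e k x = π (s (e k x)) := (LinearMap.congr_fun hs _).symm
    rw [this, ← map_sub, pi_apply_eq_sum π]
    exact Submodule.sum_mem _ fun i _ => Submodule.smul_mem_smul (hL i k) Submodule.mem_top
  choose f hf using hlim
  have haus : ∀ z : M, (∀ k, z ∈ I ^ k • (⊤ : Submodule A M)) → z = 0 := by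
    intro z hz
    have : s z = 0 := funext fun i => IsHausdorff.haus (I := I) (M := A) inferInstance _ fun k => by
      rw [SModEq.sub_mem, smul_eq_mul, Ideal.mul_top, sub_zero]
      exact (mem_smul_top_coords π s hs _ _).1 (hz k) i
    rw [← LinearMap.id_apply (R := A) z, ← hs, LinearMap.comp_apply, this, map_zero]
  let el : M →ₗ[A] M :=
    { toFun := f
      map_add' := fun x y => sub_eq_zero.1 (haus _ fun k => by
        have := sub_mem (add_mem (hf x k) (hf y k)) (hf (x + y) k)
        rw [map_add] at this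
        convert this using 1
        abel)
      map_smul' := fun a x => sub_eq_zero.1 (haus _ fun k => by
        have := sub_mem (Submodule.smul_mem _ a (hf x k)) (hf (a • x) k)
        rw [map_smul, smul_sub] at this
        convert this using 1
        simp) }
  refine ⟨el, fun x => sub_eq_zero.1 (haus _ fun k => ?_), fun x => ?_⟩
  · show f (f x) - f x ∈ _
    have h1 := hf (f x) k
    have h2 := hf x k
    have h3 := hd k x
    rw [sq, LinearMap.sub_apply, Module.End.mul_apply] at h3
    have h4 : e k (e k x - f x) ∈ I ^ k • (⊤ : Submodule A M) :=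
      Submodule.smul_mono le_rfl le_top (hmap _ _ h2)
    rw [map_sub] at h4
    have h3' := Submodule.smul_mono_left (N := ⊤) (Ideal.pow_le_pow_right (Nat.le_succ k)) h3
    have := add_mem (sub_mem (sub_mem h3' h4) h1) h2
    convert this using 1
    abel
  · show f x - g x ∈ _
    have h1 := hmono 0 1 zero_le_one x
    have h2 := hf x 1
    simp only [zero_add, pow_one] at h1 h2
    have := sub_mem h1 h2
    convert this using 1
    simp [e]

theorem exists_normal_of_complement_mod [Module.Finite A M] [Module.Projective A M] (I : Ideal A)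
    [IsAdicComplete I A] (Q C : Submodule A M) (hsup : Q ⊔ C = ⊤) (hinf : Q ⊓ C = I • ⊤) :
    ∃ L T : Submodule A M, IsCompl L T ∧ Q = L ⊔ I • T := by
  have hsurj : Function.Surjective (Q.subtype.coprod C.subtype) := by
    rw [← LinearMap.range_eq_top, LinearMap.range_coprod, Submodule.range_subtype, Submodule.range_subtype, hsup]
  obtain ⟨s, hs⟩ := Module.projective_lifting_property _ LinearMap.id hsurj
  let g : M →ₗ[A] M := Q.subtype.comp ((LinearMap.fst A Q C).comp s)
  have hdec : ∀ x, ((s x).1 : M) + (s x).2 = x := fun x => LinearMap.congr_fun hs x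
  have hgQ : ∀ q ∈ Q, q - g q ∈ I • (⊤ : Submodule A M) := by
    intro q hq
    rw [← hinf]
    refine ⟨sub_mem hq (s q).1.2, ?_⟩
    show q - ((s q).1 : M) ∈ C
    rw [show q - ((s q).1 : M) = (s q).2 from sub_eq_of_eq_add' (hdec q).symm]
    exact (s q).2.2
  obtain ⟨e, he, heg⟩ := exists_idempotent_lift I g (fun x => by
    rw [← neg_sub]; exact neg_mem (hgQ _ (s x).1.2))
  have hIQ : I • (⊤ : Submodule A M) ≤ Q := hinf ▸ inf_le_left
  refine ⟨LinearMap.range e, LinearMap.ker e, LinearMap.IsIdempotentElem.isCompl (show e.comp e = e from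
    LinearMap.ext he), le_antisymm (fun q hq => ?_) (sup_le ?_ ((Submodule.smul_mono le_rfl le_top).trans hIQ))⟩
  · have h1 : q - e q ∈ I • (⊤ : Submodule A M) := by
      have := sub_mem (hgQ q hq) (heg q)
      convert this using 1
      abel
    have h2 : (LinearMap.id - e : M →ₗ[A] M) (q - e q) ∈ (I • (⊤ : Submodule A M)).map (LinearMap.id - e) :=
      Submodule.mem_map_of_mem h1
    rw [Submodule.map_smul'', Submodule.map_top] at h2
    have h3 : q - e q ∈ I • LinearMap.ker e := by
      refine Submodule.smul_mono le_rfl ?_ (by simpa [he] using h2)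
      rintro _ ⟨y, rfl⟩
      simp [he]
    exact Submodule.mem_sup.2 ⟨e q, LinearMap.mem_range_self e q, _, h3, add_sub_cancel (e q) q⟩
  · rintro _ ⟨x, rfl⟩
    have := add_mem (hIQ (heg x)) (s x).1.2
    simpa [g] using this

end Groth.Agent.DispLib
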