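import Groth.Prelude.Def_Dieu
import Mathlib.RingTheory.Finiteness.Basic

/-! Generic facts on `Dieu.BC`. -/

namespace Groth.Agent.DispLib

variable {A B : Type*} [CommRing A] [CommRing B] (g : A →+* B) {P : Type*} [AddCommGroup P] [Module A P]

theorem bc_tmul_mem_span {S : Set P} {x : P} (hx : x ∈ Submodule.span A S) (b : B) :
    Dieu.BC.tmul g b x ∈ Submodule.span B ((fun s => Dieu.BC.tmul g 1 s) '' S) := by
  induction hx using Submodule.span_induction generalizing b with
  | mem s hs =>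
    rw [Dieu.BC.tmul_eq_smul_tmul_one]
    exact Submodule.smul_mem _ _ (Submodule.subset_span ⟨s, hs, rfl⟩)
  | zero => simp
  | add x y _ _ hx hy => rw [Dieu.BC.tmul_add]; exact add_mem (hx b) (hy b)
  | smul a x _ hx => rw [← Dieu.BC.tmul_mul_apply]; exact hx _

theorem bc_span_eq_top {S : Set P} (hS : Submodule.span A S = ⊤) :
    Submodule.span B ((fun s => Dieu.BC.tmul g 1 s) '' S) = ⊤ := by
  refine eq_top_iff.2 fun z hz => ?_
  clear hz
  induction z using Dieu.BC.induction_on g with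
  | zero => exact zero_mem _
  | tmul b x => exact bc_tmul_mem_span g (hS ▸ Submodule.mem_top) b
  | add z₁ z₂ h₁ h₂ => exact add_mem h₁ h₂

theorem bc_finite [Module.Finite A P] : Module.Finite B (Dieu.BC g P) := by
  classical
  obtain ⟨S, hS⟩ := Module.Finite.fg_top (R := A) (M := P)
  exact ⟨⟨S.image fun s => Dieu.BC.tmul g 1 s, by rw [Finset.coe_image]; exact bc_span_eq_top g hS⟩⟩

theorem bc_tmul_mem_smul_top {I : Ideal A} {J : Ideal B} (hIJ : ∀ a ∈ I, g a ∈ J) {x : P}
    (hx : x ∈ I • (⊤ : Submodule A P)) (b : B) :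
    Dieu.BC.tmul g b x ∈ J • (⊤ : Submodule B (Dieu.BC g P)) := by
  refine Submodule.smul_induction_on hx (fun a ha y _ => ?_) (fun u v hu hv => by rw [Dieu.BC.tmul_add]; exact add_mem hu hv)
  rw [← Dieu.BC.tmul_mul_apply, mul_comm, ← Dieu.BC.smul_tmul]
  exact Submodule.smul_mem_smul (hIJ a ha) Submodule.mem_top

theorem bc_map_comp {P' P'' : Type*} [AddCommGroup P'] [Module A P'] [AddCommGroup P''] [Module A P'']
    (f : P' →ₗ[A] P'') (e : P →ₗ[A] P') :
    Dieu.BC.map g (f.comp e) = (Dieu.BC.map g f).comp (Dieu.BC.map g e) :=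
  Dieu.BC.ext g fun x => by simp

theorem bc_map_id : Dieu.BC.map g (LinearMap.id : P →ₗ[A] P) = LinearMap.id :=
  Dieu.BC.ext g fun x => by simp

end Groth.Agent.DispLib
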