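import Groth.Agent.DispLib.Basic
import Groth.Agent.DispLib.BCTools
import Mathlib.Algebra.Module.Projective
import Mathlib.LinearAlgebra.Projection

/-! Base change of 3n-displays. -/

namespace Groth.Agent.DispLib

open W4c1extbt610

section Semi

variable {A B : Type*} [CommRing A] [CommRing B] (g : A →+* B) (h : A →+* A) (h' : B →+* B)
variable {P P' : Type*} [AddCommGroup P] [Module A P] [AddCommGroup P'] [Module A P']

/-- `b ⊗ x ↦ h' b ⊗ φ x` -/
noncomputable def semiBC (e : h'.comp g = g.comp h) (φ : P →ₛₗ[h] P') :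
    Dieu.BC g P →ₛₗ[h'] Dieu.BC g P' :=
  let ψ : P →ₛₗ[g.comp h] Dieu.BC g P' :=
    { toFun := fun x => Dieu.BC.tmul g 1 (φ x)
      map_add' := fun x y => by rw [map_add, Dieu.BC.tmul_add]
      map_smul' := fun a x => by
        rw [map_smulₛₗ, ← Dieu.BC.tmul_mul_apply, one_mul, Dieu.BC.tmul_eq_smul_tmul_one]; rfl }
  ((Dieu.BC.lift (g.comp h) ψ).comp (Dieu.BC.castHom e)).comp (Dieu.BC.push g h')

theorem semiBC_tmul (e : h'.comp g = g.comp h) (φ : P →ₛₗ[h] P') (b : B) (x : P) :
    semiBC g h h' e φ (Dieu.BC.tmul g b x) = Dieu.BC.tmul g (h' b) (φ x) := by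
  simp [semiBC]

/-- extension of a form to the scalar extension -/
noncomputable def formBC (c : P →ₗ[A] A) : Dieu.BC g P →ₗ[B] B :=
  Dieu.BC.lift g
    { toFun := fun x => g (c x)
      map_add' := fun x y => by rw [map_add, map_add]
      map_smul' := fun a x => by rw [map_smul, smul_eq_mul, map_mul, smul_eq_mul] }

theorem formBC_tmul (c : P →ₗ[A] A) (b : B) (x : P) : formBC g c (Dieu.BC.tmul g b x) = b * g (c x) := by
  simp [formBC]

theorem bc_projective [Module.Finite A P] [Module.Projective A P] : Module.Projective B (Dieu.BC g P) := by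
  obtain ⟨n, π, hπ⟩ := Module.Finite.exists_fin' A P
  obtain ⟨s, hs⟩ := Module.projective_lifting_property π LinearMap.id hπ
  let S : Dieu.BC g P →ₗ[B] (Fin n → B) := LinearMap.pi fun i => formBC g ((LinearMap.proj i).comp s)
  let T : (Fin n → B) →ₗ[B] Dieu.BC g P :=
    Fintype.linearCombination B fun i => Dieu.BC.tmul g 1 (π (Pi.single i 1))
  refine Module.Projective.of_split S T (Dieu.BC.ext g fun x => ?_)
  simp only [LinearMap.comp_apply, LinearMap.id_apply, T, Fintype.linearCombination_apply, S,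
    LinearMap.pi_apply, formBC_tmul, one_mul, LinearMap.proj_apply]
  conv_rhs => rw [show x = π (s x) from (LinearMap.congr_fun hs x).symm, pi_eq_sum_univ' (s x), map_sum]
  let φ : P →+ Dieu.BC g P := AddMonoidHom.mk' (fun u => Dieu.BC.tmul g 1 u) (Dieu.BC.tmul_add g 1)
  show _ = φ _
  rw [map_sum]
  refine Finset.sum_congr rfl fun i _ => ?_
  show _ = Dieu.BC.tmul g 1 _
  rw [map_smul, ← Dieu.BC.tmul_mul_apply, one_mul, Dieu.BC.smul_tmul, mul_one]

end Semi

universe u

variable {p : ℕ} [hp : Fact p.Prime] {R : Type u} [CommRing R]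

/-- `V⁻¹` on the augmentation ideal. -/
noncomputable def vinvIV :
    IV p R →ₛₗ[(WittVector.frobenius : WittVector p R →+* WittVector p R)] WittVector p R where
  toFun a := (mem_IV_iff.1 a.2).choose
  map_add' a b := WittVector.verschiebung_injective p R (by
    rw [map_add, (mem_IV_iff.1 (a + b).2).choose_spec, (mem_IV_iff.1 a.2).choose_spec,
      (mem_IV_iff.1 b.2).choose_spec]
    rfl)
  map_smul' c a := WittVector.verschiebung_injective p R (by
    rw [(mem_IV_iff.1 (c • a).2).choose_spec, smul_eq_mul, mul_comm, WittVector.verschiebung_mul_frobenius,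
      (mem_IV_iff.1 a.2).choose_spec, mul_comm]
    rfl)

theorem vinvIV_eq {a : IV p R} {w : WittVector p R} (h : WittVector.verschiebung w = (a : WittVector p R)) :
    vinvIV a = w :=
  WittVector.verschiebung_injective p R (by rw [h]; exact (mem_IV_iff.1 a.2).choose_spec)

theorem display_ext {P : Type*} [AddCommGroup P] [Module (WittVector p R) P] {D E : Display3n p R P}
    (hQ : D.Q = E.Q) (hF : D.F = E.F)
    (hV : ∀ (x : P) (h : x ∈ D.Q) (h' : x ∈ E.Q), D.Vinv ⟨x, h⟩ = E.Vinv ⟨x, h'⟩) : D = E := by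
  obtain ⟨Q, F, V, _, _, _, _, _, _⟩ := D
  obtain ⟨Q', F', V', _, _, _, _, _, _⟩ := E
  simp only at hQ hF hV
  subst hQ hF
  obtain rfl : V = V' := LinearMap.ext fun x => hV x x.2 x.2
  rfl

variable {S : Type u} [CommRing S] {P : Type*} [AddCommGroup P] [Module (WittVector p S) P]
  (D : Display3n p S P)

/-- A normal decomposition with coordinates on `T`. -/
structure Coords where
  n : ℕ
  e : P →ₗ[WittVector p S] P
  c : Fin n → (P →ₗ[WittVector p S] WittVector p S)
  t : Fin n → P
  decomp : ∀ x, x = e x + ∑ i, c i x • t i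
  e_mem : ∀ x, e x ∈ D.Q
  e_idem : ∀ x, e (e x) = e x
  e_t : ∀ i, e (t i) = 0
  c_e : ∀ i x, c i (e x) = 0
  c_mem : ∀ i, ∀ y ∈ D.Q, c i y ∈ IV p S

theorem nonempty_coords : Nonempty (Coords D) := by
  obtain ⟨L, T, h, hQ⟩ := D.exists_normal
  have := D.finite; have := D.projective
  have : Module.Finite (WittVector p S) T :=
    Module.Finite.of_surjective (T.projectionOnto L h.symm) (Submodule.projectionOnto_surjective h.symm)
  have : Module.Projective (WittVector p S) T :=
    Module.Projective.of_split T.subtype (T.projectionOnto L h.symm)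
      (LinearMap.ext fun x => Submodule.projectionOnto_apply_left h.symm x)
  obtain ⟨n, π, hπ⟩ := Module.Finite.exists_fin' (WittVector p S) T
  obtain ⟨s, hs⟩ := Module.projective_lifting_property π LinearMap.id hπ
  let pT := T.projectionOnto L h.symm
  let c : Fin n → (P →ₗ[WittVector p S] WittVector p S) := fun i => (LinearMap.proj i).comp (s.comp pT)
  let e : P →ₗ[WittVector p S] P := L.subtype.comp (L.projectionOnto T h)
  have hc0 : ∀ i (x : P), x ∈ L → c i x = 0 := fun i x hx => by
    simp [c, pT, Submodule.projectionOnto_apply_eq_zero_iff h.symm |>.2 hx]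
  refine ⟨⟨n, e, c, fun i => (π (Pi.single i 1) : P), fun x => ?_, fun x => ?_, fun x => ?_, fun i => ?_,
    fun i x => hc0 i _ (L.projectionOnto T h x).2, fun i y hy => ?_⟩⟩
  · have hT : (pT x : P) = ∑ i, c i x • (π (Pi.single i 1) : P) := by
      conv_lhs => rw [show pT x = π (s (pT x)) from (LinearMap.congr_fun hs _).symm, pi_eq_sum_univ' (s (pT x)),
        map_sum]
      rw [Submodule.coe_sum]
      refine Finset.sum_congr rfl fun i _ => ?_
      rw [map_smul, Submodule.coe_smul]; rfl
    rw [← hT]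
    exact (Submodule.projection_add_projection_eq_self h x).symm
  · exact mem_Q_of_mem_left D hQ (L.projectionOnto T h x).2
  · simp [e]
  · simp [e, Submodule.projectionOnto_apply_eq_zero_iff h |>.2 (π (Pi.single i 1)).2]
  · rw [hQ] at hy
    obtain ⟨l, hl, z, hz, rfl⟩ := Submodule.mem_sup.1 hy
    rw [map_add, hc0 i l hl, zero_add]
    refine Submodule.smul_induction_on hz (fun a ha u _ => ?_) (fun u v hu hv => by rw [map_add]; exact add_mem hu hv)
    rw [map_smul]
    exact Ideal.mul_mem_right _ _ ha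

variable (f : S →+* R)

local notation "g" => (WittVector.map f : WittVector p S →+* WittVector p R)

theorem frobenius_comp_map :
    (WittVector.frobenius : WittVector p R →+* WittVector p R).comp g =
      (g).comp (WittVector.frobenius : WittVector p S →+* WittVector p S) :=
  RingHom.ext fun x => WittVector.ext fun n => by
    simp only [RingHom.comp_apply, WittVector.map_coeff, WittVector.coeff_frobenius]
    exact ((MvPolynomial.comp_aeval_apply f.toIntAlgHom (f := x.coeff) (WittVector.frobeniusPoly p n))).symm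

/-- `F_R` -/
noncomputable def FR : Dieu.BC g P →ₛₗ[(WittVector.frobenius : WittVector p R →+* WittVector p R)] Dieu.BC g P :=
  semiBC g _ _ (frobenius_comp_map f) D.F

theorem FR_tmul (w : WittVector p R) (x : P) :
    FR D f (Dieu.BC.tmul g w x) = Dieu.BC.tmul g (WittVector.frobenius w) (D.F x) :=
  semiBC_tmul ..

variable (C : Coords D)

theorem decompR (z : Dieu.BC g P) :
    z = Dieu.BC.map g C.e z + ∑ i, formBC g (C.c i) z • Dieu.BC.tmul g 1 (C.t i) := by
  induction z using Dieu.BC.induction_on g with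
  | zero => simp
  | add a b ha hb =>
    conv_lhs => rw [ha, hb]
    simp only [map_add, add_smul, Finset.sum_add_distrib]
    abel
  | tmul w x =>
    conv_lhs => rw [C.decomp x, Dieu.BC.tmul_add]
    rw [Dieu.BC.map_tmul]
    congr 1
    let φ : P →+ Dieu.BC g P := AddMonoidHom.mk' (fun u => Dieu.BC.tmul g w u) (Dieu.BC.tmul_add g w)
    show φ _ = _
    rw [map_sum]
    refine Finset.sum_congr rfl fun i _ => ?_
    show Dieu.BC.tmul g w _ = _
    rw [← Dieu.BC.tmul_mul_apply, formBC_tmul, Dieu.BC.smul_tmul, mul_one]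

theorem bcQuotMap_tmul_eq_zero {x : P} (hx : x ∈ D.Q) (w : WittVector p R) :
    Dieu.bcQuotMap f D.Q (Dieu.BC.tmul g w x) = 0 := by
  rw [Dieu.bcQuotMap_tmul, Submodule.mkQ_apply, (Submodule.Quotient.mk_eq_zero _).2 hx, Dieu.BC.tmul_zero]

theorem mem_QR_iff (z : Dieu.BC g P) :
    z ∈ LinearMap.ker (Dieu.bcQuotMap f D.Q) ↔ ∀ i, formBC g (C.c i) z ∈ IV p R := by
  constructor
  · intro hz i
    let h := (WittVector.constantCoeff : WittVector p R →+* R).comp g
    let c0 : (P ⧸ D.Q) →ₛₗ[h] R := D.Q.liftQ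
      { toFun := fun x => h (C.c i x)
        map_add' := fun x y => by rw [map_add, map_add]
        map_smul' := fun a x => by rw [map_smul, smul_eq_mul, map_mul, smul_eq_mul] }
      (fun y hy => by
        obtain ⟨u, hu⟩ := mem_IV_iff.1 (C.c_mem i y hy)
        show h (C.c i y) = 0
        rw [← hu, RingHom.comp_apply, WittVector.map_verschiebung]
        show (WittVector.verschiebung (g u)).coeff 0 = 0
        exact WittVector.verschiebung_coeff_zero _)
    have key : ∀ z : Dieu.BC g P, Dieu.BC.lift h c0 (Dieu.bcQuotMap f D.Q z) =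
        WittVector.constantCoeff (formBC g (C.c i) z) := by
      intro z
      induction z using Dieu.BC.induction_on g with
      | zero => simp
      | add a b ha hb => simp only [map_add, ha, hb]
      | tmul w x =>
        rw [Dieu.bcQuotMap_tmul, Dieu.BC.lift_tmul, formBC_tmul, map_mul, smul_eq_mul]
        rfl
    rw [IV_eq_ker, RingHom.mem_ker, ← key, LinearMap.mem_ker.1 hz, map_zero]
  · intro hz
    rw [decompR D f C z]
    refine add_mem ?_ (sum_mem fun i _ => ?_)
    · induction z using Dieu.BC.induction_on g with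
      | zero => simp
      | tmul w x => rw [Dieu.BC.map_tmul]; exact bcQuotMap_tmul_eq_zero D f (C.e_mem x) w
      | add a b ha hb =>
        clear hz
        have : ∀ z : Dieu.BC g P, Dieu.BC.map g C.e z ∈ LinearMap.ker (Dieu.bcQuotMap f D.Q) := by
          intro z
          induction z using Dieu.BC.induction_on g with
          | zero => simp
          | tmul w x => rw [Dieu.BC.map_tmul]; exact bcQuotMap_tmul_eq_zero D f (C.e_mem x) w
          | add a b ha hb => rw [map_add]; exact add_mem ha hb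
        exact this _
    · obtain ⟨u, hu⟩ := mem_IV_iff.1 (hz i)
      rw [LinearMap.mem_ker, map_smulₛₗ, ← hu,
        show WittVector.constantCoeff (WittVector.verschiebung u) = 0 from WittVector.verschiebung_coeff_zero u,
        zero_smul]

/-- the submodule `Q_R` in coordinates -/
noncomputable def QR : Submodule (WittVector p R) (Dieu.BC g P) :=
  ⨅ i, Submodule.comap (formBC g (C.c i)) (IV p R)

theorem QR_eq : QR D f C = LinearMap.ker (Dieu.bcQuotMap f D.Q) := by
  ext z
  rw [mem_QR_iff D f C]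
  simp [QR]

theorem mem_QR {z : Dieu.BC g P} : z ∈ QR D f C ↔ ∀ i, formBC g (C.c i) z ∈ IV p R := by
  simp [QR]

theorem frobenius_comp_map' :
    (WittVector.frobenius : WittVector p R →+* WittVector p R).comp g =
      (g).comp (WittVector.frobenius : WittVector p S →+* WittVector p S) := frobenius_comp_map f

/-- `V⁻¹` on the `L`-part -/
noncomputable def AR : Dieu.BC g P →ₛₗ[(WittVector.frobenius : WittVector p R →+* WittVector p R)] Dieu.BC g P :=
  semiBC g _ _ (frobenius_comp_map f) (D.Vinv.comp (C.e.codRestrict D.Q C.e_mem))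

/-- `V_R⁻¹` -/
noncomputable def VR : QR D f C →ₛₗ[(WittVector.frobenius : WittVector p R →+* WittVector p R)] Dieu.BC g P :=
  (AR D f C).comp (QR D f C).subtype +
    ∑ i, ((LinearMap.toSpanSingleton (WittVector p R) _ (Dieu.BC.tmul g 1 (D.F (C.t i)))).comp
      ((vinvIV (p := p) (R := R)).comp
        (((formBC g (C.c i)).comp (QR D f C).subtype).codRestrict (IV p R) fun z => (mem_QR D f C).1 z.2 i)))

theorem VR_apply (z : QR D f C) :
    VR D f C z = AR D f C (z : Dieu.BC g P) +
      ∑ i, vinvIV ⟨formBC g (C.c i) z, (mem_QR D f C).1 z.2 i⟩ • Dieu.BC.tmul g 1 (D.F (C.t i)) := by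
  simp [VR]; rfl

theorem VR_verschiebung_tmul (u : WittVector p R) (x : P)
    (h : Dieu.BC.tmul g (WittVector.verschiebung u) x ∈ QR D f C) :
    VR D f C ⟨_, h⟩ = Dieu.BC.tmul g u (D.F x) := by
  rw [VR_apply]
  simp only
  rw [AR, semiBC_tmul]
  have hF : D.F x = (p : WittVector p S) • D.Vinv ⟨C.e x, C.e_mem x⟩ + ∑ i, WittVector.frobenius (C.c i x) • D.F (C.t i) := by
    conv_lhs => rw [C.decomp x, map_add, map_sum]
    exact congr_arg₂ (· + ·) (F_coe D ⟨C.e x, C.e_mem x⟩) (Finset.sum_congr rfl fun i _ => map_smulₛₗ ..)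
  rw [hF, Dieu.BC.tmul_add]
  congr 1
  · rw [← Dieu.BC.tmul_mul_apply, map_natCast, frobenius_verschiebung_mul, mul_comm]
    rfl
  · let φ : P →+ Dieu.BC g P := AddMonoidHom.mk' (fun v => Dieu.BC.tmul g u v) (Dieu.BC.tmul_add g u)
    show _ = φ _
    rw [map_sum]
    refine Finset.sum_congr rfl fun i _ => ?_
    show _ = Dieu.BC.tmul g u _
    rw [← Dieu.BC.tmul_mul_apply, vinvIV_eq (w := u * g (WittVector.frobenius (C.c i x))), Dieu.BC.smul_tmul, mul_one]
    show _ = formBC g (C.c i) (Dieu.BC.tmul g (WittVector.verschiebung u) x)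
    rw [formBC_tmul, ← RingHom.comp_apply, ← frobenius_comp_map, RingHom.comp_apply, WittVector.verschiebung_mul_frobenius]

theorem VR_tmul (w : WittVector p R) (y : D.Q) (h : Dieu.BC.tmul g w (y : P) ∈ QR D f C) :
    VR D f C ⟨_, h⟩ = Dieu.BC.tmul g (WittVector.frobenius w) (D.Vinv y) := by
  rw [VR_apply]
  simp only
  rw [AR, semiBC_tmul]
  choose u hu using fun i => mem_IV_iff.1 (C.c_mem i y y.2)
  have hy : D.Vinv y = D.Vinv ⟨C.e y, C.e_mem y⟩ + ∑ i, u i • D.F (C.t i) := by
    have hmem : ∀ i, C.c i y • C.t i ∈ D.Q := fun i =>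
      D.IV_smul_le (Submodule.smul_mem_smul (C.c_mem i y y.2) Submodule.mem_top)
    have hdec : y = (⟨C.e y, C.e_mem y⟩ : D.Q) + ∑ i, (⟨C.c i y • C.t i, hmem i⟩ : D.Q) := Subtype.ext (by
      rw [Submodule.coe_add, Submodule.coe_sum]; exact C.decomp y)
    conv_lhs => rw [hdec, map_add, map_sum]
    exact congrArg _ (Finset.sum_congr rfl fun i _ => Vinv_eq D (u i) (hu i) (hmem i))
  rw [hy, Dieu.BC.tmul_add]
  congr 1
  let φ : P →+ Dieu.BC g P :=
    AddMonoidHom.mk' (fun v => Dieu.BC.tmul g (WittVector.frobenius w) v) (Dieu.BC.tmul_add g _)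
  show _ = φ _
  rw [map_sum]
  refine Finset.sum_congr rfl fun i _ => ?_
  show _ = Dieu.BC.tmul g (WittVector.frobenius w) _
  rw [← Dieu.BC.tmul_mul_apply, vinvIV_eq (w := WittVector.frobenius w * g (u i)), Dieu.BC.smul_tmul, mul_one]
  show _ = formBC g (C.c i) (Dieu.BC.tmul g w (y : P))
  rw [formBC_tmul, ← hu, WittVector.map_verschiebung, mul_comm (WittVector.frobenius w),
    WittVector.verschiebung_mul_frobenius, mul_comm]

theorem tmul_mem_QR (w : WittVector p R) (y : D.Q) : Dieu.BC.tmul g w (y : P) ∈ QR D f C := by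
  rw [QR_eq]; exact bcQuotMap_tmul_eq_zero D f y.2 w

theorem verschiebung_tmul_mem_QR (u : WittVector p R) (x : P) :
    Dieu.BC.tmul g (WittVector.verschiebung u) x ∈ QR D f C := by
  rw [mem_QR]
  intro i
  rw [formBC_tmul]
  exact Ideal.mul_mem_right _ _ (verschiebung_mem_IV p R u)

omit C in
/-- induction along `Q_R` -/
theorem QR_induction {motive : LinearMap.ker (Dieu.bcQuotMap f D.Q) → Prop}
    (tmul : ∀ (w : WittVector p R) (y : D.Q) (h : Dieu.BC.tmul g w (y : P) ∈ LinearMap.ker (Dieu.bcQuotMap f D.Q)), motive ⟨_, h⟩)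
    (vtmul : ∀ (u : WittVector p R) (x : P)
      (h : Dieu.BC.tmul g (WittVector.verschiebung u) x ∈ LinearMap.ker (Dieu.bcQuotMap f D.Q)), motive ⟨_, h⟩)
    (add : ∀ a b, motive a → motive b → motive (a + b)) (z : LinearMap.ker (Dieu.bcQuotMap f D.Q)) : motive z := by
  obtain ⟨C⟩ := nonempty_coords D
  have hz : ∀ i, formBC g (C.c i) z ∈ IV p R := (mem_QR_iff D f C z).1 z.2
  let Good : Dieu.BC g P → Prop := fun y => ∃ h, motive ⟨y, h⟩
  have gadd : ∀ a b, Good a → Good b → Good (a + b) := by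
    rintro a b ⟨ha, ha'⟩ ⟨hb, hb'⟩
    exact ⟨add_mem ha hb, add _ _ ha' hb'⟩
  have gzero : Good 0 := ⟨zero_mem _, by
    have := tmul 0 0 (by simp)
    simpa using this⟩
  have h1 : ∀ y : Dieu.BC g P, Good (Dieu.BC.map g C.e y) := by
    intro y
    induction y using Dieu.BC.induction_on g with
    | zero => simpa using gzero
    | tmul w x =>
      rw [Dieu.BC.map_tmul]
      exact ⟨bcQuotMap_tmul_eq_zero D f (C.e_mem x) w, tmul w ⟨_, C.e_mem x⟩ _⟩
    | add a b ha hb => rw [map_add]; exact gadd _ _ ha hb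
  have h2 : ∀ s : Finset (Fin C.n), Good (∑ i ∈ s, formBC g (C.c i) z • Dieu.BC.tmul g 1 (C.t i)) := by
    intro s
    classical
    induction s using Finset.induction with
    | empty => simpa using gzero
    | insert i s hi ih =>
      rw [Finset.sum_insert hi]
      refine gadd _ _ ?_ ih
      obtain ⟨u, hu⟩ := mem_IV_iff.1 (hz i)
      rw [← hu, Dieu.BC.smul_tmul, mul_one]
      have hmem : Dieu.BC.tmul g (WittVector.verschiebung u) (C.t i) ∈ LinearMap.ker (Dieu.bcQuotMap f D.Q) := by
        rw [← QR_eq D f C]; exact verschiebung_tmul_mem_QR D f C u _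
      exact ⟨hmem, vtmul u _ _⟩
  obtain ⟨h, hm⟩ := gadd _ _ (h1 z) (h2 Finset.univ)
  have : z = ⟨_, h⟩ := Subtype.ext (decompR D f C (z : Dieu.BC g P))
  rw [this]
  exact hm

/-- The base change of `D` along `f`. -/
noncomputable def baseChange : Display3n p R (Dieu.BC g P) where
  Q := QR D f C
  F := FR D f
  Vinv := VR D f C
  finite := have := D.finite; bc_finite g
  projective := have := D.finite; have := D.projective; bc_projective g
  IV_smul_le := Submodule.smul_le.2 fun a ha z _ => (mem_QR D f C).2 fun i => by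
    rw [map_smul]; exact Ideal.mul_mem_right _ _ ha
  exists_normal := by
    refine ⟨LinearMap.range (Dieu.BC.map g C.e), LinearMap.ker (Dieu.BC.map g C.e), ?_, le_antisymm ?_ ?_⟩
    · refine LinearMap.IsIdempotentElem.isCompl (?_ : (Dieu.BC.map g C.e).comp (Dieu.BC.map g C.e) = Dieu.BC.map g C.e)
      rw [← bc_map_comp, show C.e.comp C.e = C.e from LinearMap.ext C.e_idem]
    · intro z hz
      rw [decompR D f C z]
      refine Submodule.add_mem_sup (LinearMap.mem_range_self _ z) (sum_mem fun i _ => ?_)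
      refine Submodule.smul_mem_smul ((mem_QR D f C).1 hz i) ?_
      rw [LinearMap.mem_ker, Dieu.BC.map_tmul, C.e_t, Dieu.BC.tmul_zero]
    · refine sup_le ?_ (Submodule.smul_le.2 fun a ha z _ => (mem_QR D f C).2 fun i => by
        rw [map_smul]; exact Ideal.mul_mem_right _ _ ha)
      rintro _ ⟨z, rfl⟩
      refine (mem_QR D f C).2 fun i => ?_
      have : (formBC g (C.c i)).comp (Dieu.BC.map g C.e) = 0 := Dieu.BC.ext g fun x => by simp [formBC_tmul, C.c_e]
      rw [← LinearMap.comp_apply, this]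
      exact zero_mem _
  span_range_Vinv := by
    rw [eq_top_iff, ← bc_span_eq_top g D.span_range_Vinv, Submodule.span_le]
    rintro _ ⟨_, ⟨y, rfl⟩, rfl⟩
    refine Submodule.subset_span ⟨⟨_, tmul_mem_QR D f C 1 y⟩, ?_⟩
    rw [VR_tmul, map_one]
  Vinv_verschiebung_smul := fun w z => by
    have hm : ∀ z, WittVector.verschiebung w • z ∈ QR D f C := fun z => (mem_QR D f C).2 fun i => by
      rw [map_smul]; exact Ideal.mul_mem_right _ _ (verschiebung_mem_IV p R w)
    show VR D f C ⟨_, hm z⟩ = _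
    induction z using Dieu.BC.induction_on g with
    | zero =>
      have : (⟨_, hm 0⟩ : QR D f C) = 0 := Subtype.ext (smul_zero _)
      rw [this, map_zero, map_zero, smul_zero]
    | add a b ha hb =>
      have : (⟨_, hm (a + b)⟩ : QR D f C) = ⟨_, hm a⟩ + ⟨_, hm b⟩ := Subtype.ext (smul_add _ _ _)
      rw [this, map_add, map_add, smul_add, ha, hb]
    | tmul a x =>
      have e : WittVector.verschiebung w • Dieu.BC.tmul g a x =
          Dieu.BC.tmul g (WittVector.verschiebung (w * WittVector.frobenius a)) x := by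
        rw [Dieu.BC.smul_tmul, WittVector.verschiebung_mul_frobenius]
      have : (⟨_, hm (Dieu.BC.tmul g a x)⟩ : QR D f C) = ⟨_, verschiebung_tmul_mem_QR D f C (w * WittVector.frobenius a) x⟩ :=
        Subtype.ext e
      rw [this, VR_verschiebung_tmul, FR_tmul, Dieu.BC.smul_tmul]

theorem isDispBaseChange_baseChange : Dieu.IsDispBaseChange f D (baseChange D f C) where
  Q_eq := QR_eq D f C
  F_tmul := FR_tmul D f
  Vinv_tmul := VR_tmul D f C
  Vinv_verschiebung_tmul := VR_verschiebung_tmul D f C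

omit C in
theorem bcBaseChange_unique {D₁ D₂ : Display3n p R (Dieu.BC g P)} (h₁ : Dieu.IsDispBaseChange f D D₁)
    (h₂ : Dieu.IsDispBaseChange f D D₂) : D₁ = D₂ := by
  refine display_ext (h₁.Q_eq.trans h₂.Q_eq.symm) (LinearMap.ext fun z => ?_) fun z hz hz' => ?_
  · induction z using Dieu.BC.induction_on g with
    | zero => simp
    | tmul w x => rw [h₁.F_tmul, h₂.F_tmul]
    | add a b ha hb => simp [map_add, ha, hb]
  · have m₁ : ∀ z : LinearMap.ker (Dieu.bcQuotMap f D.Q), (z : Dieu.BC g P) ∈ D₁.Q := fun z => by rw [h₁.Q_eq]; exact z.2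
    have m₂ : ∀ z : LinearMap.ker (Dieu.bcQuotMap f D.Q), (z : Dieu.BC g P) ∈ D₂.Q := fun z => by rw [h₂.Q_eq]; exact z.2
    have key : ∀ z : LinearMap.ker (Dieu.bcQuotMap f D.Q),
        D₁.Vinv ⟨z, m₁ z⟩ = D₂.Vinv ⟨z, m₂ z⟩ := by
      intro z
      induction z using QR_induction D f with
      | tmul w y h => rw [h₁.Vinv_tmul, h₂.Vinv_tmul]
      | vtmul u x h => rw [h₁.Vinv_verschiebung_tmul, h₂.Vinv_verschiebung_tmul]
      | add a b ha hb =>
        have e1 : (⟨((a + b : LinearMap.ker (Dieu.bcQuotMap f D.Q)) : Dieu.BC g P), m₁ (a + b)⟩ : D₁.Q) =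
          ⟨a, m₁ a⟩ + ⟨b, m₁ b⟩ := rfl
        have e2 : (⟨((a + b : LinearMap.ker (Dieu.bcQuotMap f D.Q)) : Dieu.BC g P), m₂ (a + b)⟩ : D₂.Q) =
          ⟨a, m₂ a⟩ + ⟨b, m₂ b⟩ := rfl
        rw [e1, e2, map_add, map_add, ha, hb]
    exact key ⟨z, by rw [← h₁.Q_eq]; exact hz⟩

end Groth.Agent.DispLib
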