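import Groth.Agent.DispLib.IV
import Groth.Prelude.Def_Disp2
import Mathlib.LinearAlgebra.Prod

/-! Basic facts on 3n-displays. -/

namespace Groth.Agent.DispLib

open W4c1extbt610

variable {p : ℕ} [hp : Fact p.Prime] {R : Type*} [CommRing R]
variable {P : Type*} [AddCommGroup P] [Module (WittVector p R) P] (D : Display3n p R P)

local notation "W" => WittVector p R
local notation "σ" => (WittVector.frobenius : WittVector p R →+* WittVector p R)

theorem frobenius_verschiebung_mul (w : W) : σ (WittVector.verschiebung w) = (p : W) * w := by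
  rw [WittVector.frobenius_verschiebung, mul_comm]

theorem Vinv_one_smul (x : P) (h : WittVector.verschiebung (1 : W) • x ∈ D.Q) :
    D.Vinv ⟨_, h⟩ = D.F x := by
  simpa using D.Vinv_verschiebung_smul 1 x

theorem Vinv_eq {a : W} {x : P} (w : W) (ha : WittVector.verschiebung w = a) (h : a • x ∈ D.Q) :
    D.Vinv ⟨_, h⟩ = w • D.F x := by
  subst ha
  exact D.Vinv_verschiebung_smul w x

theorem F_coe (y : D.Q) : D.F (y : P) = (p : W) • D.Vinv y := by
  have h : WittVector.verschiebung (1 : W) • (y : P) ∈ D.Q := D.Q.smul_mem _ y.2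
  rw [← Vinv_one_smul D (y : P) h, show (⟨_, h⟩ : D.Q) = WittVector.verschiebung (1 : W) • y from rfl,
    map_smulₛₗ, frobenius_verschiebung_mul, mul_one]

theorem mem_Q_of_mem_left {L T : Submodule W P} (hQ : D.Q = L ⊔ IV p R • T) {x : P} (hx : x ∈ L) : x ∈ D.Q :=
  hQ ▸ Submodule.mem_sup_left hx

/-- Induction along `Q = L + IV T`. -/
theorem Q_induction {L T : Submodule W P} (hQ : D.Q = L ⊔ IV p R • T) {motive : D.Q → Prop}
    (left : ∀ (l : P) (hl : l ∈ L), motive ⟨l, mem_Q_of_mem_left D hQ hl⟩)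
    (right : ∀ (w : W) (t : P) (_ : t ∈ T),
      motive ⟨WittVector.verschiebung w • t, D.IV_smul_le (Submodule.smul_mem_smul (verschiebung_mem_IV p R w) Submodule.mem_top)⟩)
    (add : ∀ a b, motive a → motive b → motive (a + b)) (y : D.Q) : motive y := by
  have hy : (y : P) ∈ L ⊔ IV p R • T := hQ ▸ y.2
  obtain ⟨l, hl, i, hi, hli⟩ := Submodule.mem_sup.1 hy
  have hiQ : ∀ i ∈ IV p R • T, i ∈ D.Q := fun i hi => hQ ▸ Submodule.mem_sup_right hi
  have key : motive ⟨i, hiQ i hi⟩ := by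
    refine Submodule.smul_induction_on' (p := fun i hi => motive ⟨i, hiQ i hi⟩) hi (fun a ha t ht => ?_)
      (fun a ha b hb h1 h2 => add _ _ h1 h2)
    obtain ⟨w, rfl⟩ := mem_IV_iff.1 ha
    exact right w t ht
  have : y = ⟨l, mem_Q_of_mem_left D hQ hl⟩ + ⟨i, hiQ i hi⟩ := Subtype.ext hli.symm
  rw [this]
  exact add _ _ (left l hl) key

/-- The linearisation `W ⊗_σ L × W ⊗_σ T → P` of `V⁻¹ ⊕ F`. -/
noncomputable def phi {L T : Submodule W P} (hQ : D.Q = L ⊔ IV p R • T) :
    Dieu.BC σ L × Dieu.BC σ T →ₗ[W] P :=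
  (Dieu.BC.lift σ (D.Vinv.comp (Submodule.inclusion (fun _ hx => mem_Q_of_mem_left D hQ hx)))).coprod
    (Dieu.BC.lift σ (D.F.comp T.subtype))

theorem phi_inl {L T : Submodule W P} (hQ : D.Q = L ⊔ IV p R • T) (w : W) (l : L) :
    phi D hQ (Dieu.BC.tmul σ w l, 0) = w • D.Vinv ⟨l, mem_Q_of_mem_left D hQ l.2⟩ := by
  simp [phi]
  rfl

theorem phi_inr {L T : Submodule W P} (hQ : D.Q = L ⊔ IV p R • T) (w : W) (t : T) :
    phi D hQ (0, Dieu.BC.tmul σ w t) = w • D.F (t : P) := by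
  simp [phi]

theorem phi_surjective {L T : Submodule W P} (hQ : D.Q = L ⊔ IV p R • T) :
    Function.Surjective (phi D hQ) := by
  rw [← LinearMap.range_eq_top, eq_top_iff, ← D.span_range_Vinv, Submodule.span_le]
  rintro _ ⟨y, rfl⟩
  induction y using Q_induction D hQ with
  | left l hl => exact ⟨(Dieu.BC.tmul σ 1 (⟨l, hl⟩ : L), 0), by rw [phi_inl, one_smul]⟩
  | right w t ht => exact ⟨(0, Dieu.BC.tmul σ w (⟨t, ht⟩ : T)), by rw [phi_inr, D.Vinv_verschiebung_smul]⟩
  | add a b ha hb => rw [map_add]; exact add_mem ha hb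

theorem span_Vinv_union_F {L T : Submodule W P} (hQ : D.Q = L ⊔ IV p R • T) :
    Submodule.span W (Set.range (fun l : L => D.Vinv ⟨l, mem_Q_of_mem_left D hQ l.2⟩) ∪
      Set.range (fun t : T => D.F (t : P))) = ⊤ := by
  rw [eq_top_iff, ← D.span_range_Vinv, Submodule.span_le]
  rintro _ ⟨y, rfl⟩
  induction y using Q_induction D hQ with
  | left l hl => exact Submodule.subset_span (Or.inl ⟨⟨l, hl⟩, rfl⟩)
  | right w t ht =>
    rw [D.Vinv_verschiebung_smul]
    exact Submodule.smul_mem _ _ (Submodule.subset_span (Or.inr ⟨⟨t, ht⟩, rfl⟩))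
  | add a b ha hb => rw [map_add]; exact add_mem ha hb

/-- Two linear maps agreeing on the values of `V⁻¹` are equal. -/
theorem ext_Vinv {N : Type*} [AddCommGroup N] [Module W N] {f g : P →ₗ[W] N}
    (h : ∀ y : D.Q, f (D.Vinv y) = g (D.Vinv y)) : f = g :=
  LinearMap.ext_on_range (v := D.Vinv) D.span_range_Vinv h

end Groth.Agent.DispLib
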