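import Groth.Agent.DispLib.BaseChange
import Mathlib.LinearAlgebra.ExteriorPower.Basis

/-! Exterior powers of 3n-displays whose tangent module is free of rank one. -/

namespace Groth.Agent.DispLib

open W4c1extbt610

section Semi

variable {A : Type*} [CommRing A] (g : A →+* A)

/-- `N` with scalars twisted by `g`. -/
def Tw (_g : A →+* A) (N : Type*) : Type _ := N

variable {M N : Type*} [AddCommGroup M] [Module A M] [AddCommGroup N] [Module A N]

instance : AddCommGroup (Tw g N) := inferInstanceAs (AddCommGroup N)

noncomputable instance : Module A (Tw g N) := fast_instance% (Module.compHom N g : Module A N)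

/-- The identity into the twisted module. -/
def toTw : N →+ Tw g N := AddMonoidHom.id N

theorem smul_toTw (a : A) (x : N) : a • toTw g x = toTw g (g a • x) := rfl

/-- The twisted alternating map. -/
noncomputable def extSemiAlt (r : ℕ) (f : M →ₛₗ[g] N) : M [⋀^Fin r]→ₗ[A] Tw g (⋀[A]^r N) :=
    { toFun := fun v => toTw g (exteriorPower.ιMulti A r fun i => f (v i))
      map_update_add' := fun {inst} v i x y => by
        have e : ∀ z, (fun j => f (Function.update v i z j)) = Function.update (fun j => f (v j)) i (f z) :=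
          fun z => funext fun j => by rcases eq_or_ne j i with rfl | h <;> simp [*]
        show toTw g (exteriorPower.ιMulti A r _) = toTw g (exteriorPower.ιMulti A r _) + toTw g (exteriorPower.ιMulti A r _)
        rw [← map_add, e, e, e, map_add, AlternatingMap.map_update_add]
      map_update_smul' := fun {inst} v i a x => by
        have e : ∀ z, (fun j => f (Function.update v i z j)) = Function.update (fun j => f (v j)) i (f z) :=
          fun z => funext fun j => by rcases eq_or_ne j i with rfl | h <;> simp [*]
        show toTw g (exteriorPower.ιMulti A r _) = a • toTw g (exteriorPower.ιMulti A r _)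
        rw [smul_toTw, e, e, map_smulₛₗ, AlternatingMap.map_update_smul]
      map_eq_zero_of_eq' := fun v i j hv hij => by
        rw [(exteriorPower.ιMulti A r).map_eq_zero_of_eq _ (congrArg f hv) hij, map_zero] }

theorem extSemiAlt_apply (r : ℕ) (f : M →ₛₗ[g] N) (v : Fin r → M) :
    extSemiAlt g r f v = toTw g (exteriorPower.ιMulti A r fun i => f (v i)) := rfl

/-- Forget the twist. -/
def ofTw : Tw g N →+ N := AddMonoidHom.id N

theorem ofTw_smul (a : A) (x : Tw g N) : ofTw g (a • x) = g a • ofTw g x := rfl

theorem ofTw_toTw (x : N) : ofTw g (toTw g x) = x := rfl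

/-- Exterior power of a semilinear map. -/
noncomputable def extSemi (r : ℕ) (f : M →ₛₗ[g] N) : (⋀[A]^r M) →ₛₗ[g] (⋀[A]^r N) where
  toFun x := ofTw g (exteriorPower.alternatingMapLinearEquiv (extSemiAlt g r f) x)
  map_add' x y := by rw [map_add, map_add]
  map_smul' a x := by rw [map_smul, ofTw_smul]

theorem extSemi_ι (r : ℕ) (f : M →ₛₗ[g] N) (v : Fin r → M) :
    extSemi g r f (exteriorPower.ιMulti A r v) = exteriorPower.ιMulti A r fun i => f (v i) :=
  show ofTw g (exteriorPower.alternatingMapLinearEquiv (extSemiAlt g r f) (exteriorPower.ιMulti A r v)) = _ by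
    rw [exteriorPower.alternatingMapLinearEquiv_apply_ιMulti, extSemiAlt_apply, ofTw_toTw]

/-- Expansion along one extra direction. -/
theorem alt_expand {r : ℕ} (ψ : M [⋀^Fin r]→ₗ[A] N) (a : Fin r → M) (c : Fin r → A) (u : M) :
    ψ (fun i => a i + c i • u) = ψ a + ∑ i, c i • ψ (Function.update a i u) := by
  classical
  suffices H : ∀ (s : Finset (Fin r)) (a : Fin r → M),
      ψ (fun i => if i ∈ s then a i + c i • u else a i) = ψ a + ∑ i ∈ s, c i • ψ (Function.update a i u) by
    simpa using H Finset.univ a
  intro s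
  induction s using Finset.induction with
  | empty => intro a; simp
  | insert j s hj ih =>
    intro a
    have e : ∀ z, (fun i => if i ∈ s then Function.update a j z i + c i • u else Function.update a j z i) =
        Function.update (fun i => if i ∈ s then a i + c i • u else a i) j z := fun z => funext fun i => by
      rcases eq_or_ne i j with rfl | h <;> simp [*]
    have e' : (fun i => if i ∈ insert j s then a i + c i • u else a i) =
        Function.update (fun i => if i ∈ s then a i + c i • u else a i) j (a j + c j • u) := funext fun i => by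
      rcases eq_or_ne i j with rfl | h <;> simp [*]
    rw [e', AlternatingMap.map_update_add, AlternatingMap.map_update_smul, Finset.sum_insert hj, ← e (a j), ← e u,
      Function.update_eq_self, ih a, ih (Function.update a j u)]
    rw [show (∑ i ∈ s, c i • ψ (Function.update (Function.update a j u) i u)) = 0 from
      Finset.sum_eq_zero fun i hi => by
        have hij : i ≠ j := fun h => hj (h ▸ hi)
        rw [ψ.map_eq_zero_of_eq _ (by simp [hij, hij.symm]) hij, smul_zero]]
    abel

theorem ext_projective [Module.Finite A M] [Module.Projective A M] (r : ℕ) : Module.Projective A (⋀[A]^r M) := by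
  obtain ⟨n, π, hπ⟩ := Module.Finite.exists_fin' A M
  obtain ⟨s, hs⟩ := Module.projective_lifting_property π LinearMap.id hπ
  exact Module.Projective.of_split (exteriorPower.map r s) (exteriorPower.map r π)
    (by rw [← exteriorPower.map_comp, hs, exteriorPower.map_id])

end Semi

universe u

variable {p : ℕ} [hp : Fact p.Prime] {R : Type u} [CommRing R]


section Ext

variable {E N : Type*} [AddCommGroup E] [Module (WittVector p R) E] [AddCommGroup N] [Module (WittVector p R) N]
variable [Module.Finite (WittVector p R) E] [Module.Projective (WittVector p R) E] (g : E →ₛₗ[(WittVector.frobenius : WittVector p R →+* WittVector p R)] N)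

theorem exists_ivExt : ∃ G : ↥(IV p R • (⊤ : Submodule (WittVector p R) E)) →ₛₗ[(WittVector.frobenius : WittVector p R →+* WittVector p R)] N, ∀ (a : IV p R) (x : E),
    G ⟨(a : (WittVector p R)) • x, Submodule.smul_mem_smul a.2 Submodule.mem_top⟩ = vinvIV a • g x := by
  obtain ⟨k, π, hπ⟩ := Module.Finite.exists_fin' (WittVector p R) E
  obtain ⟨s, hs⟩ := Module.projective_lifting_property π LinearMap.id hπ
  have hmem : ∀ (y : ↥(IV p R • (⊤ : Submodule (WittVector p R) E))) j, s (y : E) j ∈ IV p R := fun y j =>
    Submodule.smul_induction_on (p := fun y : E => s y j ∈ IV p R) y.2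
      (fun a ha x _ => by rw [map_smul]; exact Ideal.mul_mem_right _ _ ha)
      (fun x y hx hy => by rw [map_add]; exact add_mem hx hy)
  refine ⟨{ toFun := fun y => ∑ j, vinvIV ⟨s (y : E) j, hmem y j⟩ • g (π (Pi.single j 1))
            map_add' := fun x y => by
              simp only [Submodule.coe_add, map_add, Pi.add_apply]
              rw [← Finset.sum_add_distrib]
              refine Finset.sum_congr rfl fun j _ => ?_
              rw [← add_smul, ← map_add vinvIV]
              rfl
            map_smul' := fun a x => by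
              simp only [SetLike.val_smul, map_smul, Pi.smul_apply]
              rw [Finset.smul_sum]
              refine Finset.sum_congr rfl fun j _ => ?_
              rw [smul_smul, ← smul_eq_mul, ← map_smulₛₗ vinvIV]
              rfl }, fun a x => ?_⟩
  show ∑ j, vinvIV ⟨s ((a : (WittVector p R)) • x) j, _⟩ • g (π (Pi.single j 1)) = _
  have h : ∀ j (h : s ((a : (WittVector p R)) • x) j ∈ IV p R), vinvIV ⟨_, h⟩ = vinvIV a * (WittVector.frobenius : WittVector p R →+* WittVector p R) (s x j) := fun j h => by
    refine vinvIV_eq ?_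
    rw [WittVector.verschiebung_mul_frobenius]
    simp [vinvIV, (mem_IV_iff.1 a.2).choose_spec]
  simp only [h]
  conv_rhs => rw [← show π (s x) = x from LinearMap.congr_fun hs x, pi_eq_sum_univ' (s x)]
  simp only [map_sum, map_smulₛₗ, Finset.smul_sum, smul_smul, RingHom.id_apply]

end Ext

variable {P : Type*} [AddCommGroup P] [Module (WittVector p R) P] (D : Display3n p R P) (t : P) (π : P →ₗ[(WittVector p R)] (WittVector p R))

/-- Tangent coordinate data. -/
def IsTangent : Prop := π t = 1 ∧ ∀ x, x ∈ D.Q ↔ π x ∈ IV p R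

theorem isTangent_of_equiv {L T : Submodule (WittVector p R) P} (h : IsCompl L T) (hQ : D.Q = L ⊔ IV p R • T)
    (e : T ≃ₗ[(WittVector p R)] (WittVector p R)) : IsTangent D (e.symm 1 : T) (e.toLinearMap.comp (T.projectionOnto L h.symm)) := by
  refine ⟨?_, fun x => ⟨fun hx => ?_, fun hx => ?_⟩⟩
  · simp
  · rw [hQ] at hx
    obtain ⟨l, hl, i, hi, rfl⟩ := Submodule.mem_sup.1 hx
    rw [map_add, LinearMap.comp_apply, Submodule.projectionOnto_apply_of_mem_right h.symm hl, map_zero,
      zero_add]
    refine Submodule.smul_induction_on hi (fun a ha y _ => ?_) (fun a b ha hb => ?_)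
    · rw [map_smul]; exact Ideal.mul_mem_right _ _ ha
    · rw [map_add]; exact add_mem ha hb
  · rw [hQ]
    have h2 : x - (T.projectionOnto L h.symm x : P) ∈ L := by
      rw [← Submodule.projectionOnto_apply_eq_zero_iff h.symm, map_sub,
        Submodule.projectionOnto_apply_left, sub_self]
    refine Submodule.mem_sup.2 ⟨_, h2, (T.projectionOnto L h.symm x : P), ?_, sub_add_cancel _ _⟩
    have h3 : T.projectionOnto L h.symm x = (e.toLinearMap.comp (T.projectionOnto L h.symm)) x • e.symm 1 := by
      rw [← map_smul, smul_eq_mul, mul_one, LinearMap.comp_apply, LinearEquiv.coe_coe, e.symm_apply_apply]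
    rw [h3, Submodule.coe_smul]
    exact Submodule.smul_mem_smul hx (e.symm 1).2

theorem exists_tangent (hT : ∃ L T : Submodule (WittVector p R) P, IsCompl L T ∧ D.Q = L ⊔ IV p R • T ∧
    Nonempty (T ≃ₗ[(WittVector p R)] (WittVector p R))) : ∃ t π, IsTangent D t π := by
  obtain ⟨L, T, h, hQ, ⟨e⟩⟩ := hT
  exact ⟨_, _, isTangent_of_equiv D h hQ e⟩

/-- The projection killing `t`. -/
noncomputable def pL : P →ₗ[(WittVector p R)] P := LinearMap.id - π.smulRight t

theorem decomp (x : P) : x = pL t π x + π x • t := by simp [pL]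

variable {D t π}

theorem pi_pL (h : IsTangent D t π) (x : P) : π (pL t π x) = 0 := by simp [pL, h.1]

theorem pL_mem (h : IsTangent D t π) (x : P) : pL t π x ∈ D.Q := (h.2 _).2 (by rw [pi_pL h]; exact zero_mem _)

theorem pL_t (h : IsTangent D t π) : pL t π t = 0 := by simp [pL, h.1]

theorem pL_eq_self {x : P} (hx : π x = 0) : pL t π x = x := by simp [pL, hx]

theorem Vinv_decomp (h : IsTangent D t π) (q : D.Q) :
    D.Vinv q = D.Vinv ⟨pL t π q, pL_mem h q⟩ + vinvIV ⟨π q, (h.2 _).1 q.2⟩ • D.F t := by
  have hq : π (q : P) • t ∈ D.Q := D.IV_smul_le (Submodule.smul_mem_smul ((h.2 _).1 q.2) Submodule.mem_top)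
  have e : q = ⟨pL t π q, pL_mem h q⟩ + ⟨_, hq⟩ := Subtype.ext (decomp t π q)
  conv_lhs => rw [e, map_add]
  rw [Vinv_eq D (vinvIV ⟨π q, (h.2 _).1 q.2⟩)]
  exact (mem_IV_iff.1 ((h.2 _).1 q.2)).choose_spec

/-- `V⁻¹ ∘ pL` -/
noncomputable def hA (h : IsTangent D t π) : P →ₛₗ[(WittVector.frobenius : WittVector p R →+* WittVector p R)] P := D.Vinv.comp ((pL t π).codRestrict D.Q (pL_mem h))

/-- `V⁻¹ ∘ pL + F ∘ π` -/
noncomputable def hB (h : IsTangent D t π) : P →ₛₗ[(WittVector.frobenius : WittVector p R →+* WittVector p R)] P :=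
  { toFun := fun x => hA h x + (WittVector.frobenius : WittVector p R →+* WittVector p R) (π x) • D.F t
    map_add' := fun x y => by simp only [map_add, add_smul]; abel
    map_smul' := fun a x => by simp only [map_smulₛₗ, RingHom.id_apply, smul_add, smul_eq_mul, map_mul, mul_smul] }

variable (r : ℕ)


variable (t π) in
/-- the complementary idempotent on the exterior power -/
noncomputable def piB : (⋀[(WittVector p R)]^r P) →ₗ[(WittVector p R)] (⋀[(WittVector p R)]^r P) := LinearMap.id - exteriorPower.map r (pL t π)

theorem piB_ι (v : Fin r → P) :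
    piB t π r ((exteriorPower.ιMulti (WittVector p R) r) v) = ∑ i, π (v i) • (exteriorPower.ιMulti (WittVector p R) r) (Function.update (fun j => pL t π (v j)) i t) := by
  rw [piB, LinearMap.sub_apply, LinearMap.id_apply, exteriorPower.map_apply_ιMulti, sub_eq_iff_eq_add']
  conv_lhs => rw [show v = fun j => pL t π (v j) + π (v j) • t from funext fun j => decomp t π (v j)]
  exact alt_expand _ _ _ _

/-- The operator `g`. -/
noncomputable def gOp (h : IsTangent D t π) : (⋀[(WittVector p R)]^r P) →ₛₗ[(WittVector.frobenius : WittVector p R →+* WittVector p R)] (⋀[(WittVector p R)]^r P) :=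
  extSemi (WittVector.frobenius : WittVector p R →+* WittVector p R) r (hB h) - extSemi (WittVector.frobenius : WittVector p R →+* WittVector p R) r (hA h)

theorem gOp_ι (h : IsTangent D t π) (v : Fin r → P) :
    gOp r h ((exteriorPower.ιMulti (WittVector p R) r) v) = ∑ i, (WittVector.frobenius : WittVector p R →+* WittVector p R) (π (v i)) • (exteriorPower.ιMulti (WittVector p R) r) (Function.update (fun j => hA h (v j)) i (D.F t)) := by
  rw [gOp, LinearMap.sub_apply, extSemi_ι, extSemi_ι, sub_eq_iff_eq_add']
  exact alt_expand _ (fun j => hA h (v j)) (fun j => (WittVector.frobenius : WittVector p R →+* WittVector p R) (π (v j))) (D.F t)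

theorem gOp_update (h : IsTangent D t π) (v : Fin r → P) (hv : ∀ j, π (v j) = 0) (i : Fin r) :
    gOp r h ((exteriorPower.ιMulti (WittVector p R) r) (Function.update v i t)) = (exteriorPower.ιMulti (WittVector p R) r) (Function.update (fun j => hA h (v j)) i (D.F t)) := by
  rw [gOp_ι, Finset.sum_eq_single i]
  · rw [Function.update_self, h.1, map_one, one_smul]
    congr 1
    funext j
    rcases eq_or_ne j i with rfl | hj <;> simp [*]
  · intro j _ hj
    rw [Function.update_of_ne hj, hv, map_zero, zero_smul]
  · simp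

variable (D) in
/-- `Q` of the exterior power. -/
noncomputable def extQ : Submodule (WittVector p R) (⋀[(WittVector p R)]^r P) := Submodule.span (WittVector p R) (Set.range fun q : Fin r → D.Q => (exteriorPower.ιMulti (WittVector p R) r) (fun i => (q i : P)))

theorem piB_mem (h : IsTangent D t π) {x : ⋀[(WittVector p R)]^r P} (hx : x ∈ extQ D r) :
    piB t π r x ∈ IV p R • (⊤ : Submodule (WittVector p R) (⋀[(WittVector p R)]^r P)) := by
  induction hx using Submodule.span_induction with
  | mem x hx =>
    obtain ⟨q, rfl⟩ := hx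
    rw [piB_ι]
    exact Submodule.sum_mem _ fun i _ => Submodule.smul_mem_smul ((h.2 _).1 (q i).2) Submodule.mem_top
  | zero => rw [map_zero]; exact zero_mem _
  | add x y _ _ hx hy => rw [map_add]; exact add_mem hx hy
  | smul a x _ hx => rw [map_smul]; exact Submodule.smul_mem _ _ hx

theorem IV_smul_le_extQ (h : IsTangent D t π) : IV p R • (⊤ : Submodule (WittVector p R) (⋀[(WittVector p R)]^r P)) ≤ extQ D r := by
  rw [← exteriorPower.ιMulti_span, Submodule.smul_le]
  intro a ha x hx
  induction hx using Submodule.span_induction with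
  | zero => rw [smul_zero]; exact zero_mem _
  | add x y _ _ hx hy => rw [smul_add]; exact add_mem hx hy
  | smul b x _ hx => rw [smul_comm]; exact Submodule.smul_mem _ _ hx
  | mem x hx =>
    obtain ⟨v, rfl⟩ := hx
    have hr : (exteriorPower.ιMulti (WittVector p R) r) v = (exteriorPower.ιMulti (WittVector p R) r) (fun j => pL t π (v j)) + piB t π r ((exteriorPower.ιMulti (WittVector p R) r) v) := by
      rw [piB, LinearMap.sub_apply, LinearMap.id_apply, exteriorPower.map_apply_ιMulti, Function.comp_def, add_sub_cancel]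
    rw [hr, piB_ι, smul_add, Finset.smul_sum]
    refine add_mem (Submodule.smul_mem _ _ (Submodule.subset_span ⟨fun j => ⟨_, pL_mem h (v j)⟩, rfl⟩))
      (Submodule.sum_mem _ fun i _ => ?_)
    rw [smul_smul, mul_comm a, mul_smul, ← AlternatingMap.map_update_smul]
    refine Submodule.smul_mem _ _ (Submodule.subset_span
      ⟨Function.update (fun j => ⟨pL t π (v j), pL_mem h (v j)⟩) i
        ⟨a • t, D.IV_smul_le (Submodule.smul_mem_smul ha Submodule.mem_top)⟩, ?_⟩)
    dsimp only
    congr 1
    funext j
    rcases eq_or_ne j i with rfl | hj <;> simp [*]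

theorem exists_extVinv [Module.Finite (WittVector p R) P] [Module.Projective (WittVector p R) P] (h : IsTangent D t π) :
    ∃ G : ↥(extQ D r) →ₛₗ[(WittVector.frobenius : WittVector p R →+* WittVector p R)] (⋀[(WittVector p R)]^r P),
      (∀ (w : (WittVector p R)) x (hx : WittVector.verschiebung w • x ∈ extQ D r),
        G ⟨_, hx⟩ = w • ((p : (WittVector p R)) • extSemi (WittVector.frobenius : WittVector p R →+* WittVector p R) r (hA h) x + gOp r h (piB t π r x))) ∧
      ∀ (q : Fin r → D.Q) (hq : (exteriorPower.ιMulti (WittVector p R) r) (fun i => (q i : P)) ∈ extQ D r),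
        G ⟨_, hq⟩ = (exteriorPower.ιMulti (WittVector p R) r) (fun i => D.Vinv (q i)) := by
  have := ext_projective (A := (WittVector p R)) (M := P) r
  obtain ⟨G, hG⟩ := exists_ivExt (gOp r h)
  let G' : ↥(extQ D r) →ₛₗ[(WittVector.frobenius : WittVector p R →+* WittVector p R)] (⋀[(WittVector p R)]^r P) :=
    (extSemi (WittVector.frobenius : WittVector p R →+* WittVector p R) r (hA h)).comp (extQ D r).subtype +
      G.comp (((piB t π r).domRestrict (extQ D r)).codRestrict _ fun x => piB_mem r h x.2)
  refine ⟨G', fun w x hx => ?_, fun q hq => ?_⟩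
  · show extSemi (WittVector.frobenius : WittVector p R →+* WittVector p R) r (hA h) (WittVector.verschiebung w • x) + G ⟨piB t π r (WittVector.verschiebung w • x), _⟩ = _
    have e := hG ⟨_, verschiebung_mem_IV p R w⟩ (piB t π r x)
    rw [vinvIV_eq (w := w) rfl] at e
    rw [map_smulₛₗ, frobenius_verschiebung_mul, smul_add w ((p : (WittVector p R)) • _), ← e, smul_smul w, mul_comm w]
    congr 2
    exact Subtype.ext (map_smul (piB t π r) _ x)
  · show extSemi (WittVector.frobenius : WittVector p R →+* WittVector p R) r (hA h) ((exteriorPower.ιMulti (WittVector p R) r) _) + G ⟨piB t π r ((exteriorPower.ιMulti (WittVector p R) r) _), _⟩ = _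
    rw [extSemi_ι]
    have hv : ∀ i, hA h (q i : P) = D.Vinv ⟨pL t π (q i), pL_mem h _⟩ := fun i => rfl
    conv_rhs => rw [show (fun i => D.Vinv (q i)) = fun i => hA h (q i : P) + vinvIV ⟨π (q i), (h.2 _).1 (q i).2⟩ • D.F t
      from funext fun i => (Vinv_decomp h (q i)).trans (by rw [hv]), alt_expand]
    congr 1
    have hsum : (⟨piB t π r ((exteriorPower.ιMulti (WittVector p R) r) fun i => (q i : P)), piB_mem r h hq⟩ : ↥(IV p R • (⊤ : Submodule (WittVector p R) (⋀[(WittVector p R)]^r P)))) =
        ∑ i, ⟨π (q i) • (exteriorPower.ιMulti (WittVector p R) r) (Function.update (fun j => pL t π (q j)) i t),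
          Submodule.smul_mem_smul ((h.2 _).1 (q i).2) Submodule.mem_top⟩ := by
      refine Subtype.ext ?_
      rw [Submodule.coe_sum]
      exact piB_ι r _
    rw [hsum, map_sum]
    refine Finset.sum_congr rfl fun i _ => ?_
    rw [hG ⟨_, (h.2 _).1 (q i).2⟩, gOp_update r h _ (fun j => pi_pL h _)]
    congr 2
    funext j
    rcases eq_or_ne j i with rfl | hj
    · simp
    · simp only [Function.update_of_ne hj]
      exact congrArg D.Vinv (Subtype.ext (pL_eq_self (pi_pL h (q j : P))))

theorem map_pL_idem (h : IsTangent D t π) (x : ⋀[(WittVector p R)]^r P) :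
    exteriorPower.map r (pL t π) (exteriorPower.map r (pL t π) x) = exteriorPower.map r (pL t π) x := by
  rw [← LinearMap.comp_apply, ← exteriorPower.map_comp,
    show pL t π ∘ₗ pL t π = pL t π from LinearMap.ext fun y => pL_eq_self (pi_pL h y)]

theorem isCompl_range_ker (h : IsTangent D t π) :
    IsCompl (LinearMap.range (exteriorPower.map r (pL t π))) (LinearMap.ker (exteriorPower.map r (pL t π))) :=
  (⟨fun x => LinearMap.mem_range_self _ x, by rintro _ ⟨y, rfl⟩; exact map_pL_idem r h y⟩ :
    LinearMap.IsProj (LinearMap.range (exteriorPower.map r (pL t π))) (exteriorPower.map r (pL t π))).isCompl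

theorem extQ_eq (h : IsTangent D t π) :
    extQ D r = LinearMap.range (exteriorPower.map r (pL t π)) ⊔ IV p R • LinearMap.ker (exteriorPower.map r (pL t π)) := by
  have hl : LinearMap.range (exteriorPower.map r (pL t π)) ≤ extQ D r := by
    rintro _ ⟨x, rfl⟩
    have hx : x ∈ Submodule.span (WittVector p R) (Set.range ((exteriorPower.ιMulti (WittVector p R) r) : (Fin r → P) → ⋀[(WittVector p R)]^r P)) := by
      rw [exteriorPower.ιMulti_span]; exact Submodule.mem_top
    induction hx using Submodule.span_induction with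
    | zero => rw [map_zero]; exact zero_mem _
    | add a b _ _ ha hb => rw [map_add]; exact add_mem ha hb
    | smul a b _ hb => rw [map_smul]; exact Submodule.smul_mem _ _ hb
    | mem y hy =>
      obtain ⟨v, rfl⟩ := hy
      rw [exteriorPower.map_apply_ιMulti]
      exact Submodule.subset_span ⟨fun j => ⟨_, pL_mem h (v j)⟩, rfl⟩
  refine le_antisymm (fun x hx => ?_) (sup_le hl ((Submodule.smul_mono le_rfl le_top).trans (IV_smul_le_extQ r h)))
  have hB : ∀ y ∈ IV p R • (⊤ : Submodule (WittVector p R) (⋀[(WittVector p R)]^r P)), piB t π r y ∈ IV p R • LinearMap.ker (exteriorPower.map r (pL t π)) := by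
    intro y hy
    refine Submodule.smul_induction_on hy (fun a ha z _ => ?_) (fun a b ha hb => by rw [map_add]; exact add_mem ha hb)
    rw [map_smul]
    refine Submodule.smul_mem_smul ha ?_
    simp [piB, map_pL_idem r h]
  refine Submodule.mem_sup.2 ⟨exteriorPower.map r (pL t π) x, ⟨x, rfl⟩, piB t π r x, ?_, by simp [piB]⟩
  have := hB _ (piB_mem r h hx)
  rwa [show piB t π r (piB t π r x) = piB t π r x by simp [piB, map_pL_idem r h]] at this

theorem exists_extPow (h : IsTangent D t π) : ∃ E : Display3n p R (⋀[(WittVector p R)]^r P), IsExtPow D r E := by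
  have := D.finite; have := D.projective
  obtain ⟨G, hG1, hG2⟩ := exists_extVinv r h
  refine ⟨⟨extQ D r, (p : (WittVector p R)) • extSemi (WittVector.frobenius : WittVector p R →+* WittVector p R) r (hA h) + (gOp r h).comp (piB t π r), G, inferInstance, ext_projective r,
    IV_smul_le_extQ r h, ⟨_, _, isCompl_range_ker r h, extQ_eq r h⟩, ?_, fun w x => ?_⟩, rfl, hG2⟩
  · refine top_unique ((exteriorPower.ιMulti_span_of_span (WittVector p R) r P D.span_range_Vinv).ge.trans (Submodule.span_mono ?_))
    rintro _ ⟨v, hv, rfl⟩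
    choose q hq using fun i => hv ⟨i, rfl⟩
    exact ⟨⟨_, Submodule.subset_span ⟨q, rfl⟩⟩, (hG2 q _).trans (by rw [funext hq])⟩
  · rw [hG1]
    rfl

theorem extPow_ext {E E' : Display3n p R (⋀[(WittVector p R)]^r P)} (hE : IsExtPow D r E) (hE' : IsExtPow D r E') : E = E' := by
  have hQ : E.Q = E'.Q := hE.1.trans hE'.1.symm
  have hV : ∀ (x) (hx : x ∈ E.Q) (hx' : x ∈ E'.Q), E.Vinv ⟨x, hx⟩ = E'.Vinv ⟨x, hx'⟩ := by
    intro x hx
    have hs := hx
    rw [hE.1] at hs
    induction hs using Submodule.span_induction with
    | mem y hy =>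
      obtain ⟨q, rfl⟩ := hy
      intro hy'
      rw [hE.2 q hx, hE'.2 q hy']
    | zero => intro _; exact (map_zero E.Vinv).trans (map_zero E'.Vinv).symm
    | add a b ha hb iha ihb =>
      intro _
      have ha1 : a ∈ E.Q := by rw [hE.1]; exact ha
      have hb1 : b ∈ E.Q := by rw [hE.1]; exact hb
      exact ((map_add E.Vinv ⟨a, ha1⟩ ⟨b, hb1⟩).trans (congrArg₂ _ (iha ha1 (hQ ▸ ha1)) (ihb hb1 (hQ ▸ hb1)))).trans
        (map_add E'.Vinv ⟨a, hQ ▸ ha1⟩ ⟨b, hQ ▸ hb1⟩).symm
    | smul c a ha iha =>
      intro _
      have ha1 : a ∈ E.Q := by rw [hE.1]; exact ha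
      exact ((map_smulₛₗ E.Vinv c ⟨a, ha1⟩).trans (congrArg ((WittVector.frobenius : WittVector p R →+* WittVector p R) c • ·) (iha ha1 (hQ ▸ ha1)))).trans
        (map_smulₛₗ E'.Vinv c ⟨a, hQ ▸ ha1⟩).symm
  refine display_ext hQ (LinearMap.ext fun x => ?_) hV
  rw [← one_smul (WittVector p R) (E.F x), ← E.Vinv_verschiebung_smul, ← one_smul (WittVector p R) (E'.F x), ← E'.Vinv_verschiebung_smul]
  exact hV _ _ _

end Groth.Agent.DispLib
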