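import Mathlib.RingTheory.WittVector.Identities
import Mathlib.RingTheory.Ideal.Quotient.Operations
import Mathlib.RingTheory.Ideal.Operations

/-! Iterates of the Witt vector Frobenius kill `W(𝔞)` for `𝔞` of bounded nilpotence when `p` is nilpotent. -/

namespace Groth.Agent.DispLib

variable {p : ℕ} [hp : Fact p.Prime] {S : Type*} [CommRing S]

theorem constantCoeff_frobeniusPolyAux (n : ℕ) :
    MvPolynomial.constantCoeff (WittVector.frobeniusPolyAux p n) = 0 := by
  have h := WittVector.coeff_frobenius (p := p) (R := ℤ) 0 n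
  rw [map_zero, WittVector.zero_coeff, WittVector.frobeniusPoly] at h
  have h0 : (fun i => (0 : WittVector p ℤ).coeff i) = (0 : ℕ → ℤ) := funext fun i => WittVector.zero_coeff _ _ i
  simp [h0, zero_pow hp.out.ne_zero, hp.out.ne_zero] at h
  exact h

/-- The operation `b ↦ (x^p, x ∈ b) + p b` on ideals. -/
def frobIdeal (p : ℕ) (b : Ideal S) : Ideal S :=
  Ideal.span ((fun x : S => x ^ p) '' b) ⊔ Ideal.span {(p : S)} * b

theorem frobIdeal_mono (p : ℕ) : Monotone (frobIdeal (S := S) p) := fun b c h =>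
  sup_le_sup (Ideal.span_mono (Set.image_mono h)) (Ideal.mul_mono le_rfl h)

theorem frobIdeal_le (b : Ideal S) : frobIdeal p b ≤ b := by
  refine sup_le (Ideal.span_le.2 ?_) Ideal.mul_le_right
  rintro _ ⟨x, hx, rfl⟩
  exact b.pow_mem_of_mem hx p hp.out.pos

theorem frobIdeal_span_mul (p : ℕ) [Fact p.Prime] (c : S) (b : Ideal S) :
    frobIdeal p (Ideal.span {c} * b) ≤ Ideal.span {c} * frobIdeal p b := by
  refine sup_le (Ideal.span_le.2 ?_) ?_
  · rintro _ ⟨x, hx, rfl⟩
    obtain ⟨y, hy, rfl⟩ := Ideal.mem_span_singleton_mul.1 hx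
    refine Ideal.mem_span_singleton_mul.2 ⟨c ^ (p - 1) * y ^ p, Ideal.mul_mem_left _ _ ?_, ?_⟩
    · exact Ideal.mem_sup_left (Ideal.subset_span ⟨y, hy, rfl⟩)
    · show c * (c ^ (p - 1) * y ^ p) = (c * y) ^ p
      rw [← mul_assoc, mul_pow_sub_one (Fact.out : p.Prime).ne_zero, mul_pow]
  · rw [← mul_assoc, mul_comm (Ideal.span {(p : S)}), mul_assoc]
    exact Ideal.mul_mono le_rfl le_sup_right

theorem frobIdeal_iterate_span_mul (c : S) (b : Ideal S) (j : ℕ) :
    (frobIdeal p)^[j] (Ideal.span {c} * b) ≤ Ideal.span {c} * (frobIdeal p)^[j] b := by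
  induction j with
  | zero => simp
  | succ j ih =>
    simp only [Function.iterate_succ_apply']
    exact (frobIdeal_mono p ih).trans (frobIdeal_span_mul p c _)

theorem frobIdeal_iterate_le (a : Ideal S) (j : ℕ) :
    (frobIdeal p)^[j] a ≤ Ideal.span ((fun x : S => x ^ p ^ j) '' a) ⊔ Ideal.span {(p : S)} * a := by
  induction j with
  | zero =>
    refine le_trans ?_ le_sup_left
    intro x hx
    exact Ideal.subset_span ⟨x, hx, by simp⟩
  | succ j ih =>
    rw [Function.iterate_succ_apply']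
    set C := Ideal.span ((fun x : S => x ^ p ^ j) '' a) ⊔ Ideal.span {(p : S)} * a with hC
    have hCa : C ≤ a := sup_le (Ideal.span_le.2 (by
      rintro _ ⟨x, hx, rfl⟩
      exact a.pow_mem_of_mem hx _ (pow_pos hp.out.pos j))) Ideal.mul_le_right
    refine (frobIdeal_mono p ih).trans (sup_le (Ideal.span_le.2 ?_) (le_trans (Ideal.mul_mono le_rfl hCa) le_sup_right))
    set D := Ideal.span ((fun x : S => x ^ p ^ (j + 1)) '' a) ⊔ Ideal.span {(p : S)} * a with hD
    -- elements of `C` whose `p`-th power lies in `D` form an ideal containing the generators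
    let G : Ideal S :=
      { carrier := {x | x ∈ a ∧ x ^ p ∈ D}
        zero_mem' := ⟨a.zero_mem, by simp [zero_pow hp.out.ne_zero]⟩
        add_mem' := by
          rintro x y ⟨hx, hx'⟩ ⟨hy, hy'⟩
          refine ⟨a.add_mem hx hy, ?_⟩
          rw [add_pow_prime_eq hp.out]
          refine D.add_mem (D.add_mem hx' hy') (Ideal.mem_sup_right ?_)
          simp only [mul_assoc]
          exact Ideal.mul_mem_mul (Ideal.mem_span_singleton_self _) (a.mul_mem_right _ hx)
        smul_mem' := by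
          rintro c x ⟨hx, hx'⟩
          refine ⟨a.mul_mem_left c hx, ?_⟩
          rw [smul_eq_mul, mul_pow]
          exact D.mul_mem_left _ hx' }
    have hCG : C ≤ G := by
      refine sup_le (Ideal.span_le.2 ?_) ?_
      · rintro _ ⟨x, hx, rfl⟩
        refine ⟨a.pow_mem_of_mem hx _ (pow_pos hp.out.pos j), Ideal.mem_sup_left (Ideal.subset_span ⟨x, hx, ?_⟩)⟩
        simp [← pow_mul, pow_succ]
      · intro x hx
        refine ⟨Ideal.mul_le_right hx, Ideal.mem_sup_right ?_⟩
        exact (Ideal.span {(p : S)} * a).pow_mem_of_mem hx p hp.out.pos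
    rintro _ ⟨x, hx, rfl⟩
    exact (hCG hx).2

theorem frobIdeal_iterate_eq_bot (a : Ideal S) (hpn : IsNilpotent (p : S)) (N : ℕ)
    (hN : ∀ x ∈ a, x ^ N = 0) : ∃ m, (frobIdeal p)^[m] a = ⊥ := by
  obtain ⟨e, he⟩ := hpn
  obtain ⟨M, hM⟩ : ∃ M, N ≤ p ^ M := ⟨N, (Nat.lt_pow_self hp.out.one_lt).le⟩
  have key : (frobIdeal p)^[M] a ≤ Ideal.span {(p : S)} * a := by
    refine (frobIdeal_iterate_le a M).trans (sup_le (Ideal.span_le.2 ?_) le_rfl)
    rintro _ ⟨x, hx, rfl⟩
    simp [pow_eq_zero_of_le hM (hN x hx)]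
  have main : ∀ k, (frobIdeal p)^[k * M] a ≤ Ideal.span {(p : S) ^ k} * a := by
    intro k
    induction k with
    | zero => simp
    | succ k ih =>
      rw [Nat.succ_mul, Function.iterate_add_apply]
      refine ((frobIdeal_mono p).iterate (k * M) key).trans
        ((frobIdeal_iterate_span_mul _ a (k * M)).trans ?_)
      rw [pow_succ', ← Ideal.span_singleton_mul_span_singleton, mul_assoc]
      exact Ideal.mul_mono le_rfl ih
  exact ⟨e * M, by simpa [he] using main e⟩

theorem frobenius_coeff_mem (b : Ideal S) (x : WittVector p S) (hx : ∀ i, x.coeff i ∈ b) (n : ℕ) :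
    (WittVector.frobenius x).coeff n ∈ frobIdeal p b := by
  rw [WittVector.coeff_frobenius, WittVector.frobeniusPoly]
  simp only [map_add, map_pow, map_mul, MvPolynomial.aeval_X,
    MvPolynomial.aeval_C]
  refine (frobIdeal p b).add_mem (Ideal.mem_sup_left (Ideal.subset_span ⟨_, hx n, rfl⟩))
    (Ideal.mem_sup_right (Ideal.mul_mem_mul (by simp) ?_))
  rw [← Ideal.Quotient.eq_zero_iff_mem]
  show (Ideal.Quotient.mkₐ ℤ b) _ = 0
  rw [MvPolynomial.aeval_eq_eval₂Hom, ← MvPolynomial.aeval_eq_eval₂Hom, ← AlgHom.comp_apply,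
    MvPolynomial.comp_aeval]
  have h0 : (fun i => (Ideal.Quotient.mkₐ ℤ b) (x.coeff i)) = (0 : ℕ → S ⧸ b) :=
    funext fun i => Ideal.Quotient.eq_zero_iff_mem.2 (hx i)
  rw [h0, MvPolynomial.aeval_zero, constantCoeff_frobeniusPolyAux, map_zero]

theorem exists_frobenius_iterate_eq_zero (hpn : IsNilpotent (p : S)) (a : Ideal S) (N : ℕ)
    (hN : ∀ x ∈ a, x ^ N = 0) :
    ∃ m, ∀ x : WittVector p S, (∀ i, x.coeff i ∈ a) → (⇑(WittVector.frobenius (p := p) (R := S)))^[m] x = 0 := by
  obtain ⟨m, hm⟩ := frobIdeal_iterate_eq_bot a hpn N hN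
  refine ⟨m, fun x hx => ?_⟩
  have : ∀ j i, (((⇑(WittVector.frobenius (p := p) (R := S)))^[j]) x).coeff i ∈ (frobIdeal p)^[j] a := by
    intro j
    induction j with
    | zero => exact hx
    | succ j ih =>
      intro i
      simp only [Function.iterate_succ_apply']
      exact frobenius_coeff_mem _ _ ih i
  ext i
  have := this m i
  rw [hm] at this
  simpa using this

theorem exists_frobenius_iterate_ker_map_eq_zero {R : Type*} [CommRing R] (φ : S →+* R)
    (hpn : IsNilpotent (p : S)) (N : ℕ) (hN : ∀ a : S, φ a = 0 → a ^ N = 0) :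
    ∃ m, ∀ x ∈ RingHom.ker (WittVector.map (p := p) φ),
      (⇑(WittVector.frobenius (p := p) (R := S)))^[m] x = 0 := by
  obtain ⟨m, hm⟩ := exists_frobenius_iterate_eq_zero hpn (RingHom.ker φ) N (fun x hx => hN x hx)
  refine ⟨m, fun x hx => hm x fun i => ?_⟩
  have := congrArg (fun w => WittVector.coeff w i) (RingHom.mem_ker.1 hx)
  simpa [RingHom.mem_ker, WittVector.map_coeff] using this

end Groth.Agent.DispLib
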