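import Mathlib.RingTheory.WittVector.Identities
import Mathlib.RingTheory.WittVector.InitTail
import Mathlib.RingTheory.WittVector.Domain
import Groth.Prelude.Def_W4c1extbt610Disp

/-! The augmentation ideal of the Witt ring. -/

namespace Groth.Agent.DispLib

open W4c1extbt610

variable {p : ℕ} [hp : Fact p.Prime] {R : Type*} [CommRing R]

theorem exists_verschiebung_eq {x : WittVector p R} (hx : x.coeff 0 = 0) :
    ∃ w, WittVector.verschiebung w = x :=
  ⟨x.shift 1, by simpa using (WittVector.eq_iterate_verschiebung (n := 1) (x := x)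
    (fun i hi => by obtain rfl : i = 0 := by omega
                    exact hx)).symm⟩

theorem IV_eq_ker : IV p R = RingHom.ker (WittVector.constantCoeff : WittVector p R →+* R) := by
  refine le_antisymm (Ideal.span_le.2 ?_) fun x hx => ?_
  · rintro _ ⟨w, rfl⟩
    exact WittVector.verschiebung_coeff_zero w
  · obtain ⟨w, rfl⟩ := exists_verschiebung_eq (x := x) hx
    exact verschiebung_mem_IV p R w

theorem mem_IV_iff {x : WittVector p R} : x ∈ IV p R ↔ ∃ w, WittVector.verschiebung w = x := by
  refine ⟨fun hx => exists_verschiebung_eq ?_, fun ⟨w, hw⟩ => hw ▸ verschiebung_mem_IV p R w⟩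
  rw [IV_eq_ker] at hx
  exact hx

theorem IV_eq_span_p [CharP R p] [PerfectRing R p] : IV p R = Ideal.span {(p : WittVector p R)} := by
  refine le_antisymm (Ideal.span_le.2 ?_) ((Ideal.span_singleton_le_iff_mem _).2 ?_)
  · rintro _ ⟨w, rfl⟩
    obtain ⟨v, rfl⟩ := (WittVector.frobenius_bijective p R).surjective w
    exact Ideal.mem_span_singleton'.2 ⟨v, (WittVector.verschiebung_frobenius v).symm⟩
  · refine mem_IV_iff.2 ⟨1, ?_⟩
    simpa using WittVector.verschiebung_frobenius (1 : WittVector p R)

end Groth.Agent.DispLib
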