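import Groth.Agent.DispLib.VSharp
import Groth.Agent.DispLib.BaseChange

/-! Iterates of `V^#`. -/

namespace Groth.Agent.DispLib

open W4c1extbt610

universe u

section General

variable {A : Type*} [CommRing A] (g : A →+* A) {P : Type*} [AddCommGroup P] [Module A P]

theorem formBC_push {B C : Type*} [CommRing B] [CommRing C] (g : A →+* B) (h : B →+* C) (c : P →ₗ[A] A)
    (z : Dieu.BC g P) : formBC (h.comp g) c (Dieu.BC.push g h z) = h (formBC g c z) := by
  induction z using Dieu.BC.induction_on g with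
  | zero => simp
  | tmul b x => simp [formBC_tmul]
  | add a b ha hb => simp [map_add, ha, hb]

theorem formBC_castHom {B : Type*} [CommRing B] {g g' : A →+* B} (e : g = g') (c : P →ₗ[A] A)
    (z : Dieu.BC g P) : formBC g' c (Dieu.BC.castHom e z) = formBC g c z := by
  subst e; rfl

theorem linear_mem_smul_top {M N : Type*} [AddCommGroup M] [Module A M] [AddCommGroup N] [Module A N]
    (f : M →ₗ[A] N) (I : Ideal A) {z : M} (hz : z ∈ I • (⊤ : Submodule A M)) :
    f z ∈ I • (⊤ : Submodule A N) := by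
  have := Submodule.mem_map_of_mem (f := f) hz
  rw [Submodule.map_smul''] at this
  exact Submodule.smul_mono le_rfl le_top this

theorem push_mem_smul_top {B C : Type*} [CommRing B] [CommRing C] (g : A →+* B) (h : B →+* C) {I : Ideal B}
    {J : Ideal C} (hIJ : ∀ a ∈ I, h a ∈ J) {z : Dieu.BC g P}
    (hz : z ∈ I • (⊤ : Submodule B (Dieu.BC g P))) :
    Dieu.BC.push g h z ∈ J • (⊤ : Submodule C (Dieu.BC (h.comp g) P)) := by
  refine Submodule.smul_induction_on hz (fun a ha y _ => ?_) (fun u v hu hv => by rw [map_add]; exact add_mem hu hv)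
  rw [map_smulₛₗ]
  exact Submodule.smul_mem_smul (hIJ a ha) Submodule.mem_top

theorem forall_bc_mem {B : Type*} [CommRing B] {g : A →+* B} {N : Type*} [AddCommGroup N] [Module B N]
    (f : Dieu.BC g P →ₗ[B] N) (K : Submodule B N) (h : ∀ x, f (Dieu.BC.tmul g 1 x) ∈ K) (z : Dieu.BC g P) :
    f z ∈ K := by
  induction z using Dieu.BC.induction_on g with
  | zero => simp
  | tmul b x => rw [Dieu.BC.tmul_eq_smul_tmul_one, map_smul]; exact K.smul_mem b (h x)
  | add a b ha hb => rw [map_add]; exact add_mem ha hb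

end General

variable {p : ℕ} [hp : Fact p.Prime] {R : Type u} [CommRing R]
variable {P : Type*} [AddCommGroup P] [Module (WittVector p R) P]

local notation "W" => WittVector p R
local notation "σ" => (WittVector.frobenius : WittVector p R →+* WittVector p R)

variable (Vs : P →ₗ[WittVector p R] Dieu.BC (WittVector.frobenius : WittVector p R →+* WittVector p R) P)

/-- `w ⊗ x ↦ w · σ^m (V^{(a+1)#} x)` -/
noncomputable def psi (a m n : ℕ) (e : (σ ^ m).comp (σ ^ (a + 1)) = σ ^ n) :
    Dieu.BC (σ ^ m) P →ₗ[W] Dieu.BC (σ ^ n) P :=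
  ((Dieu.BC.castHom e).comp (Dieu.BC.lift (σ ^ m) (Dieu.BC.push (σ ^ (a + 1)) (σ ^ m)))).comp
    (Dieu.BC.map (σ ^ m) (Dieu.vSharpPow Vs a))

theorem pow_comp_pow (m a n : ℕ) (h : n = a + m) : (σ ^ m).comp (σ ^ a) = σ ^ n := by
  subst h; rw [add_comm, pow_add]; rfl

theorem vSharpPow_comp (a : ℕ) : ∀ b : ℕ, Dieu.vSharpPow Vs (a + b + 1) =
    (psi Vs a (b + 1) (a + b + 1 + 1) (pow_comp_pow _ _ _ (by omega))).comp (Dieu.vSharpPow Vs b) := by
  intro b
  induction b with
  | zero =>
    refine LinearMap.ext fun x => ?_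
    rw [LinearMap.comp_apply, Dieu.vSharpPow_zero_apply, Dieu.vSharpPow_succ_apply]
    induction Vs x using Dieu.BC.induction_on σ with
    | zero => simp
    | add u v hu hv => simp only [map_add, hu, hv]
    | tmul w y =>
      rw [Dieu.BC.castHom_tmul, Dieu.BC.map_tmul, Dieu.BC.lift_tmul, psi, LinearMap.comp_apply, LinearMap.comp_apply,
        Dieu.BC.map_tmul, Dieu.BC.lift_tmul]
      induction Dieu.vSharpPow Vs a y using Dieu.BC.induction_on (σ ^ (a + 1)) with
      | zero => simp
      | add u v hu hv => simp only [map_add, smul_add] at hu hv ⊢; rw [hu, hv]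
      | tmul c q =>
        rw [Dieu.BC.push_tmul, Dieu.BC.push_tmul, Dieu.BC.smul_tmul, Dieu.BC.smul_tmul, Dieu.BC.castHom_tmul,
          Dieu.BC.castHom_tmul]
        simp
  | succ b ih =>
    refine LinearMap.ext fun x => ?_
    rw [LinearMap.comp_apply]
    have e1 : a + (b + 1) + 1 = (a + b + 1) + 1 := by omega
    show Dieu.vSharpPow Vs ((a + b + 1) + 1) x = _
    rw [Dieu.vSharpPow_succ_apply, ih, Dieu.vSharpPow_succ_apply]
    induction Vs x using Dieu.BC.induction_on σ with
    | zero => simp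
    | add u v hu hv => simp only [map_add, hu, hv]
    | tmul w y =>
      simp only [Dieu.BC.map_tmul, Dieu.BC.lift_tmul, LinearMap.comp_apply]
      induction Dieu.vSharpPow Vs b y using Dieu.BC.induction_on (σ ^ (b + 1)) with
      | zero => simp
      | add u v hu hv => simp only [map_add, smul_add] at hu hv ⊢; rw [hu, hv]
      | tmul c q =>
        simp only [psi, LinearMap.comp_apply, Dieu.BC.push_tmul, Dieu.BC.smul_tmul, Dieu.BC.castHom_tmul,
          Dieu.BC.map_tmul, Dieu.BC.lift_tmul]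
        induction Dieu.vSharpPow Vs a q using Dieu.BC.induction_on (σ ^ (a + 1)) with
        | zero => simp
        | add u v hu hv => simp only [map_add, smul_add] at hu hv ⊢; rw [hu, hv]
        | tmul d r =>
          simp only [Dieu.BC.push_tmul, Dieu.BC.smul_tmul, Dieu.BC.castHom_tmul, map_mul]
          congr 1
          rw [← mul_assoc, pow_succ' σ (b + 1)]
          rfl

theorem vSharpPow_comp_mem {I I' : Ideal W} (a b : ℕ)
    (ha : ∀ x, Dieu.vSharpPow Vs a x ∈ I • (⊤ : Submodule W (Dieu.BC (σ ^ (a + 1)) P)))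
    (hb : ∀ x, Dieu.vSharpPow Vs b x ∈ I' • (⊤ : Submodule W (Dieu.BC (σ ^ (b + 1)) P))) (x : P) :
    Dieu.vSharpPow Vs (a + b + 1) x ∈
      (I' * Ideal.map (σ ^ (b + 1)) I) • (⊤ : Submodule W (Dieu.BC (σ ^ (a + b + 1 + 1)) P)) := by
  rw [vSharpPow_comp, LinearMap.comp_apply, mul_comm]
  refine Submodule.smul_induction_on (hb x) (fun r hr z _ => ?_) (fun u v hu hv => by rw [map_add]; exact add_mem hu hv)
  rw [map_smul, mul_comm, ← smul_eq_mul I', Submodule.smul_assoc]
  refine Submodule.smul_mem_smul hr (forall_bc_mem _ _ (fun y => ?_) z)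
  simp only [psi, LinearMap.comp_apply, Dieu.BC.map_tmul, Dieu.BC.lift_tmul, one_smul]
  exact linear_mem_smul_top _ _ (push_mem_smul_top _ _ (fun c hc => Ideal.mem_map_of_mem _ hc) (ha y))

/-- the map `W(R) → R/pR` -/
noncomputable def toModP : W →+* R ⧸ Ideal.span {(p : R)} :=
  (Ideal.Quotient.mk _).comp WittVector.constantCoeff

theorem map_span_natCast (f : W →+* R) (n : ℕ) : Ideal.map f (Ideal.span {(n : W)}) = Ideal.span {(n : R)} := by
  rw [Ideal.map_span, Set.image_singleton, map_natCast]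

theorem ker_toModP : RingHom.ker (toModP : W →+* R ⧸ Ideal.span {(p : R)}) = IV p R ⊔ Ideal.span {(p : W)} := by
  rw [toModP, ← RingHom.comap_ker, Ideal.mk_ker, IV_eq_ker, sup_comm,
    ← map_span_natCast (WittVector.constantCoeff : W →+* R) p]
  rw [Ideal.comap_map_of_surjective _ (WittVector.constantCoeff_surjective p), ← RingHom.ker_eq_comap_bot]
theorem toModP_frobenius (a : W) : toModP (σ a) = toModP a ^ p := by
  show Ideal.Quotient.mk _ ((WittVector.frobenius a).coeff 0) = (Ideal.Quotient.mk _ (a.coeff 0)) ^ p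
  rw [WittVector.coeff_frobenius, WittVector.frobeniusPoly]
  simp only [map_add, map_pow, map_mul, MvPolynomial.aeval_X, MvPolynomial.aeval_C, map_natCast]
  rw [show (p : R ⧸ Ideal.span {(p : R)}) = 0 from by
    rw [← map_natCast (Ideal.Quotient.mk _), Ideal.Quotient.eq_zero_iff_mem]; exact Ideal.mem_span_singleton_self _,
    zero_mul, add_zero]

theorem map_pow_frobenius_J (m : ℕ) :
    Ideal.map (σ ^ (m + 1)) (IV p R ⊔ Ideal.span {(p : W)}) ≤ Ideal.span {(p : W)} := by
  induction m with
  | zero =>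
    rw [zero_add, pow_one, Ideal.map_sup, sup_le_iff, Ideal.map_span, Set.image_singleton, map_natCast]
    refine ⟨Ideal.map_le_iff_le_comap.2 fun a ha => ?_, le_rfl⟩
    obtain ⟨w, rfl⟩ := mem_IV_iff.1 ha
    rw [Ideal.mem_comap, frobenius_verschiebung_mul]
    exact Ideal.mul_mem_right _ _ (Ideal.mem_span_singleton_self _)
  | succ m ih =>
    rw [pow_succ' σ (m + 1), show σ * σ ^ (m + 1) = RingHom.comp σ (σ ^ (m + 1)) from rfl, ← Ideal.map_map]
    refine (Ideal.map_mono ih).trans ?_
    rw [Ideal.map_span, Set.image_singleton, map_natCast]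

end Groth.Agent.DispLib
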