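import Groth.Agent.DispLib.Iterate

/-! `V^#` of a base change. -/

namespace Groth.Agent.DispLib

open W4c1extbt610

universe u

variable {p : ℕ} [hp : Fact p.Prime] {S R : Type u} [CommRing S] [CommRing R] (f : S →+* R)
variable {P : Type*} [AddCommGroup P] [Module (WittVector p S) P]

local notation "g" => (WittVector.map f : WittVector p S →+* WittVector p R)
local notation "σS" => (WittVector.frobenius : WittVector p S →+* WittVector p S)
local notation "σR" => (WittVector.frobenius : WittVector p R →+* WittVector p R)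

theorem frobenius_pow_comp_map (n : ℕ) : (σR ^ n).comp g = (g).comp (σS ^ n) := by
  induction n with
  | zero => rfl
  | succ n ih =>
    rw [pow_succ', pow_succ']
    show (RingHom.comp σR (σR ^ n)).comp g = (g).comp (RingHom.comp σS (σS ^ n))
    rw [RingHom.comp_assoc, ih, ← RingHom.comp_assoc, frobenius_comp_map, RingHom.comp_assoc]

/-- `w ⊗ x ↦ g w ⊗ (1 ⊗ x)` -/
noncomputable def theta (hS : WittVector p S →+* WittVector p S) (hR : WittVector p R →+* WittVector p R)
    (e : hR.comp g = (g).comp hS) : Dieu.BC hS P →ₛₗ[g] Dieu.BC hR (Dieu.BC g P) :=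
  let φ : P →ₛₗ[(g).comp hS] Dieu.BC hR (Dieu.BC g P) :=
    { toFun := fun x => Dieu.BC.tmul hR 1 (Dieu.BC.tmul g 1 x)
      map_add' := fun x y => by rw [Dieu.BC.tmul_add, Dieu.BC.tmul_add]
      map_smul' := fun a x => by
        rw [← e, ← Dieu.BC.tmul_apply_eq, Dieu.BC.tmul_eq_smul_tmul_one g, ← Dieu.BC.tmul_apply_eq,
          Dieu.BC.tmul_eq_smul_tmul_one hR]
        rfl }
  (Dieu.BC.lift ((g).comp hS) φ).comp (Dieu.BC.push hS g)

theorem theta_tmul (hS : WittVector p S →+* WittVector p S) (hR : WittVector p R →+* WittVector p R)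
    (e : hR.comp g = (g).comp hS) (w : WittVector p S) (x : P) :
    theta f hS hR e (Dieu.BC.tmul hS w x) = g w • Dieu.BC.tmul hR 1 (Dieu.BC.tmul g 1 x) := by
  simp [theta]

theorem vSharp_baseChange {D : Display3n p S P} {DR : Display3n p R (Dieu.BC g P)}
    (hDR : Dieu.IsDispBaseChange f D DR) {Vs : P →ₗ[WittVector p S] Dieu.BC σS P} (hVs : Dieu.IsVSharp D Vs)
    {Vs' : Dieu.BC g P →ₗ[WittVector p R] Dieu.BC σR (Dieu.BC g P)} (hVs' : Dieu.IsVSharp DR Vs') (x : P) :
    Vs' (Dieu.BC.tmul g 1 x) = theta f σS σR (frobenius_comp_map f) (Vs x) := by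
  have hx : x ∈ Submodule.span (WittVector p S) (Set.range D.Vinv) := D.span_range_Vinv ▸ Submodule.mem_top
  induction hx using Submodule.span_induction with
  | zero => simp
  | add a b _ _ ha hb => rw [Dieu.BC.tmul_add, map_add, map_add, map_add, ha, hb]
  | smul a b _ hb =>
    rw [← Dieu.BC.tmul_apply_eq, Dieu.BC.tmul_eq_smul_tmul_one, map_smul, map_smul, map_smulₛₗ, hb]
  | mem a ha =>
    obtain ⟨y, rfl⟩ := ha
    have hmem : Dieu.BC.tmul g 1 (y : P) ∈ DR.Q := by
      rw [hDR.Q_eq]; exact bcQuotMap_tmul_eq_zero D f y.2 1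
    have h1 := hDR.Vinv_tmul 1 y hmem
    rw [map_one] at h1
    have h2 := hVs'.app_smul_Vinv 1 ⟨_, hmem⟩
    rw [one_smul, h1] at h2
    have h3 := hVs.app_smul_Vinv 1 y
    rw [one_smul] at h3
    rw [h2, h3, theta_tmul, map_one, one_smul]

theorem vSharpPow_baseChange {D : Display3n p S P} {DR : Display3n p R (Dieu.BC g P)}
    (hDR : Dieu.IsDispBaseChange f D DR) {Vs : P →ₗ[WittVector p S] Dieu.BC σS P} (hVs : Dieu.IsVSharp D Vs)
    {Vs' : Dieu.BC g P →ₗ[WittVector p R] Dieu.BC σR (Dieu.BC g P)} (hVs' : Dieu.IsVSharp DR Vs') :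
    ∀ (n : ℕ) (x : P), Dieu.vSharpPow Vs' n (Dieu.BC.tmul g 1 x) =
      theta f (σS ^ (n + 1)) (σR ^ (n + 1)) (frobenius_pow_comp_map f (n + 1)) (Dieu.vSharpPow Vs n x) := by
  intro n
  induction n with
  | zero =>
    intro x
    rw [Dieu.vSharpPow_zero_apply, Dieu.vSharpPow_zero_apply, vSharp_baseChange f hDR hVs hVs']
    induction Vs x using Dieu.BC.induction_on σS with
    | zero => simp
    | add u v hu hv => simp only [map_add, hu, hv]
    | tmul w y => simp [theta_tmul]
  | succ n ih =>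
    intro x
    rw [Dieu.vSharpPow_succ_apply, Dieu.vSharpPow_succ_apply, vSharp_baseChange f hDR hVs hVs']
    induction Vs x using Dieu.BC.induction_on σS with
    | zero => simp
    | add u v hu hv => simp only [map_add, hu, hv]
    | tmul w y =>
      rw [theta_tmul, map_smul, Dieu.BC.map_tmul, ih, map_smul, map_smul, Dieu.BC.map_tmul, Dieu.BC.lift_tmul,
        Dieu.BC.lift_tmul, map_smul, map_smul, map_smulₛₗ]
      congr 1
      rw [one_smul]
      induction Dieu.vSharpPow Vs n y using Dieu.BC.induction_on (σS ^ (n + 1)) with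
      | zero => simp
      | add u v hu hv => simp only [map_add, hu, hv]
      | tmul c q =>
        simp only [theta_tmul, Dieu.BC.push_tmul, map_smulₛₗ, map_one, Dieu.BC.castHom_tmul, RingHom.id_apply]
        congr 1
        exact congrArg (fun φ => φ c) (frobenius_comp_map f)

end Groth.Agent.DispLib
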