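import Mathlib.RingTheory.WittVector.Complete
import Mathlib.RingTheory.WittVector.Frobenius
import Groth.Agent.DispLib.Summand

/-! Dieudonné modules over perfect rings: reduction modulo `p`. -/

namespace Groth.Agent.DispLib

open WittVector

set_option linter.unusedSectionVars false

variable {p : ℕ} [hp : Fact p.Prime] {k : Type*} [CommRing k] [CharP k p] [PerfectRing k p]

local notation "W" => WittVector p k
local notation "σ" => (WittVector.frobenius : WittVector p k →+* WittVector p k)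
set_option quotPrecheck false in
local notation "τ" => ((WittVector.frobeniusEquiv p k).symm : WittVector p k →+* WittVector p k)
local notation "𝔭" => Ideal.span {(p : WittVector p k)}

/-- Witt vectors with all components in the ideal `q`. -/
noncomputable def wittIdeal (q : Ideal k) : Ideal W := RingHom.ker (WittVector.map (Ideal.Quotient.mk q))

theorem mem_wittIdeal {q : Ideal k} {x : W} : x ∈ wittIdeal q ↔ ∀ i, x.coeff i ∈ q := by
  simp only [wittIdeal, RingHom.mem_ker, WittVector.ext_iff, WittVector.map_coeff,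
    WittVector.zero_coeff, Ideal.Quotient.eq_zero_iff_mem]

theorem frobenius_mem_wittIdeal {q : Ideal k} {x : W} (hx : x ∈ wittIdeal q) : σ x ∈ wittIdeal q := by
  rw [mem_wittIdeal] at hx ⊢
  exact fun i => by rw [coeff_frobenius_charP]; exact q.pow_mem_of_mem (hx i) p hp.out.pos

theorem frobeniusEquiv_symm_mem_wittIdeal {q : Ideal k} (hq : q.IsRadical) {x : W}
    (hx : x ∈ wittIdeal q) : τ x ∈ wittIdeal q := by
  rw [mem_wittIdeal] at hx ⊢
  intro i
  have h : σ (τ x) = x := (WittVector.frobeniusEquiv p k).apply_symm_apply x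
  exact hq ⟨p, by rw [← coeff_frobenius_charP, h]; exact hx i⟩

theorem mem_wittIdeal_of_mul_p_mem {q : Ideal k} (hq : q.IsRadical) {x : W}
    (hx : x * (p : W) ∈ wittIdeal q) : x ∈ wittIdeal q := by
  rw [mem_wittIdeal] at hx ⊢
  exact fun i => hq ⟨p, by rw [← mul_charP_coeff_succ]; exact hx (i + 1)⟩

theorem mem_wittIdeal_sup_p {q : Ideal k} {x : W} : x ∈ wittIdeal q ⊔ 𝔭 ↔ x.coeff 0 ∈ q := by
  refine ⟨fun hx => ?_, fun hx => ?_⟩
  · obtain ⟨a, ha, b, hb, rfl⟩ := Submodule.mem_sup.1 hx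
    rw [WittVector.add_coeff_zero, (mem_span_p_iff_coeff_zero_eq_zero b).1 hb, add_zero]
    exact mem_wittIdeal.1 ha 0
  · have h1 : WittVector.teichmuller p (x.coeff 0) ∈ wittIdeal q := by
      rw [mem_wittIdeal]
      rintro (_ | i)
      · rwa [teichmuller_coeff_zero]
      · rw [teichmuller_coeff_pos _ _ _ i.succ_pos]; exact q.zero_mem
    have h2 : x - WittVector.teichmuller p (x.coeff 0) ∈ 𝔭 := by
      rw [mem_span_p_iff_coeff_zero_eq_zero]
      show constantCoeff (x - WittVector.teichmuller p (x.coeff 0)) = 0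
      rw [map_sub]
      show x.coeff 0 - (WittVector.teichmuller p (x.coeff 0)).coeff 0 = 0
      rw [teichmuller_coeff_zero, sub_self]
    simpa using add_mem (Ideal.mem_sup_left (T := 𝔭) h1) (Ideal.mem_sup_right (S := wittIdeal q) h2)

variable {M : Type*} [AddCommGroup M] [Module (WittVector p k) M]

/-- the `p`-torsion condition needed modulo the ideals `W(q)` -/
def IsGood (p : ℕ) [Fact p.Prime] (k : Type*) [CommRing k] [CharP k p] [PerfectRing k p]
    (M : Type*) [AddCommGroup M] [Module (WittVector p k) M] : Prop :=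
  ∀ q : Ideal k, q.IsRadical → ∀ y : M, (p : WittVector p k) • y ∈ (wittIdeal q : Ideal (WittVector p k)) • (⊤ : Submodule (WittVector p k) M) →
    y ∈ (wittIdeal q ⊔ Ideal.span {(p : WittVector p k)}) • (⊤ : Submodule (WittVector p k) M)

theorem isGood_of_quotient {B : Type*} [CommRing B] [Algebra W B] [Module B M] [IsScalarTower W B M]
    [Module.Finite B M] [Module.Projective B M] (hsurj : Function.Surjective (algebraMap W B))
    (hker : ∀ q : Ideal k, q.IsRadical → ∀ c : W, c * (p : W) ∈ wittIdeal q ⊔ RingHom.ker (algebraMap W B) →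
      c ∈ wittIdeal q ⊔ 𝔭) :
    IsGood p k M := by
  intro q hq y hy
  obtain ⟨n, π, s, hs⟩ := exists_retraction (A := B) (M := M)
  have hconv : ∀ (I : Ideal W) (z : M), z ∈ I.map (algebraMap W B) • (⊤ : Submodule B M) ↔
      z ∈ I • (⊤ : Submodule W M) := by
    intro I z
    refine ⟨fun h => ?_, fun h => ?_⟩
    · refine Submodule.smul_induction_on h (fun b hb y _ => ?_) (fun u v hu hv => add_mem hu hv)
      obtain ⟨a, ha, rfl⟩ := (Ideal.mem_map_iff_of_surjective _ hsurj).1 hb
      rw [algebraMap_smul]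
      exact Submodule.smul_mem_smul ha Submodule.mem_top
    · refine Submodule.smul_induction_on h (fun a ha y _ => ?_) (fun u v hu hv => add_mem hu hv)
      rw [← algebraMap_smul B a y]
      exact Submodule.smul_mem_smul (Ideal.mem_map_of_mem _ ha) Submodule.mem_top
  rw [← hconv, mem_smul_top_coords π s hs] at hy
  rw [← hconv, mem_smul_top_coords π s hs]
  intro i
  obtain ⟨c, hc⟩ := hsurj (s y i)
  rw [← hc]
  refine Ideal.mem_map_of_mem _ (hker q hq c ?_)
  have h1 := hy i
  rw [← IsScalarTower.algebraMap_smul B (p : W) y, map_smul, Pi.smul_apply, smul_eq_mul, ← hc, ← map_mul,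
    Ideal.mem_map_iff_of_surjective _ hsurj] at h1
  obtain ⟨d, hd, hdc⟩ := h1
  have : (p : W) * c = d + ((p : W) * c - d) := by ring
  rw [mul_comm, this]
  exact Submodule.add_mem_sup hd (by rw [RingHom.mem_ker, map_sub, hdc, sub_self])

theorem isGood_of_projective [Module.Finite W M] [Module.Projective W M] : IsGood p k M :=
  isGood_of_quotient (B := W) Function.surjective_id fun q hq c hc => by
    rw [show RingHom.ker (algebraMap W W) = ⊥ from (RingHom.injective_iff_ker_eq_bot _).1 Function.injective_id,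
      sup_bot_eq] at hc
    exact Ideal.mem_sup_left (mem_wittIdeal_of_mul_p_mem hq hc)

theorem isGood_of_projective_quotient {n : ℕ} (hn : 2 ≤ n) [Module (W ⧸ Ideal.span {(p : W) ^ n}) M]
    [IsScalarTower W (W ⧸ Ideal.span {(p : W) ^ n}) M] [Module.Finite (W ⧸ Ideal.span {(p : W) ^ n}) M]
    [Module.Projective (W ⧸ Ideal.span {(p : W) ^ n}) M] : IsGood p k M :=
  isGood_of_quotient (B := W ⧸ Ideal.span {(p : W) ^ n}) Ideal.Quotient.mk_surjective fun q hq c hc => by
    rw [Ideal.Quotient.algebraMap_eq, Ideal.mk_ker, Submodule.mem_sup] at hc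
    obtain ⟨j, hj, b, hb, hjb⟩ := hc
    obtain ⟨u, rfl⟩ := Ideal.mem_span_singleton'.1 hb
    have : (c - u * (p : W) ^ (n - 1)) * (p : W) ∈ wittIdeal q := by
      convert hj using 1
      rw [sub_mul, mul_assoc, ← pow_succ, Nat.sub_add_cancel (by omega : 1 ≤ n), ← hjb, add_sub_cancel_right]
    have : c - u * (p : W) ^ (n - 1) + u * (p : W) ^ (n - 1) ∈ wittIdeal q ⊔ 𝔭 :=
      Submodule.add_mem_sup (mem_wittIdeal_of_mul_p_mem hq this)
        (Ideal.mul_mem_left _ u (Ideal.pow_mem_of_mem _ (Ideal.mem_span_singleton_self (p : W)) (n - 1) (by omega)))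
    simpa using this

variable (F : M →ₛₗ[(WittVector.frobenius : WittVector p k →+* WittVector p k)] M)
  (V : M →ₛₗ[((WittVector.frobeniusEquiv p k).symm : WittVector p k →+* WittVector p k)] M)

theorem semilin_mem {τ' : W →+* W} (G : M →ₛₗ[τ'] M) {I I' : Ideal W} (hI : ∀ x ∈ I, τ' x ∈ I') {x : M}
    (hx : x ∈ I • (⊤ : Submodule W M)) : G x ∈ I' • Submodule.span W (Set.range G) := by
  refine Submodule.smul_induction_on hx (fun a ha y _ => ?_) (fun u v hu hv => ?_)
  · rw [map_smulₛₗ]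
    exact Submodule.smul_mem_smul (hI a ha) (Submodule.subset_span ⟨y, rfl⟩)
  · rw [map_add]; exact add_mem hu hv

theorem range_span_eq {τ' : W →+* W} (G : M →ₛₗ[τ'] M) (hτ : Function.Surjective τ') :
    ∀ x, x ∈ Submodule.span W (Set.range G) ↔ x ∈ Set.range G := by
  refine fun x => ⟨fun hx => ?_, fun hx => Submodule.subset_span hx⟩
  induction hx using Submodule.span_induction with
  | mem x hx => exact hx
  | zero => exact ⟨0, map_zero G⟩
  | add x y _ _ hx hy =>
    obtain ⟨a, rfl⟩ := hx; obtain ⟨b, rfl⟩ := hy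
    exact ⟨a + b, map_add G a b⟩
  | smul c x _ hx =>
    obtain ⟨a, rfl⟩ := hx; obtain ⟨d, rfl⟩ := hτ c
    exact ⟨d • a, map_smulₛₗ G d a⟩

theorem exists_smul_of_mem_p {b : M} (hb : b ∈ 𝔭 • (⊤ : Submodule W M)) :
    ∃ z : M, (p : W) • z = b := by
  rw [Submodule.ideal_span_singleton_smul] at hb
  obtain ⟨z, -, rfl⟩ := (Submodule.mem_smul_pointwise_iff_exists _ _ _).1 hb
  exact ⟨z, rfl⟩

/-- Exactness modulo `(p) + W(q)` of `G` and `H`, where `G H = H G = p`. -/
theorem mem_of_apply_mem (hM : IsGood p k M) {τ₁ τ₂ : W →+* W} (G : M →ₛₗ[τ₁] M) (H : M →ₛₗ[τ₂] M)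
    (hGH : ∀ m, G (H m) = (p : W) • m) (hHG : ∀ m, H (G m) = (p : W) • m)
    (q : Ideal k) (hq : q.IsRadical) (hτ₂ : ∀ x ∈ wittIdeal q, τ₂ x ∈ wittIdeal q)
    {y : M} (hy : G y ∈ (wittIdeal q ⊔ 𝔭) • (⊤ : Submodule W M)) :
    y ∈ Submodule.span W (Set.range H) ⊔ (wittIdeal q ⊔ 𝔭) • (⊤ : Submodule W M) := by
  rw [Submodule.sup_smul, Submodule.mem_sup] at hy
  obtain ⟨j, hj, b, hb, hjb⟩ := hy
  obtain ⟨z, rfl⟩ := exists_smul_of_mem_p hb
  have h1 : G (y - H z) = j := by
    rw [map_sub, hGH, ← hjb, add_sub_cancel_right]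
  have h2 : (p : W) • (y - H z) ∈ (wittIdeal q : Ideal W) • (⊤ : Submodule W M) := by
    rw [← hHG, h1]
    exact Submodule.smul_mono le_rfl le_top (semilin_mem H hτ₂ hj)
  have h3 : H z + (y - H z) ∈ Submodule.span W (Set.range H) ⊔ (wittIdeal q ⊔ 𝔭) • (⊤ : Submodule W M) :=
    Submodule.add_mem_sup (Submodule.subset_span ⟨z, rfl⟩) (hM q hq _ h2)
  simpa using h3

end Groth.Agent.DispLib
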