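import Groth.Agent.DispLib.PerfectDieu

/-! Level-one exactness and projectivity of `M/VM` for Dieudonné modules over perfect rings. -/

namespace Groth.Agent.DispLib

open WittVector

set_option linter.unusedSectionVars false

variable {p : ℕ} [hp : Fact p.Prime] {k : Type*} [CommRing k] [CharP k p] [PerfectRing k p]
variable {M : Type*} [AddCommGroup M] [Module (WittVector p k) M]

local notation "W" => WittVector p k
local notation "σ" => (WittVector.frobenius : WittVector p k →+* WittVector p k)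
set_option quotPrecheck false in
local notation "τ" => ((WittVector.frobeniusEquiv p k).symm : WittVector p k →+* WittVector p k)
local notation "𝔭" => Ideal.span {(p : WittVector p k)}

theorem wittIdeal_bot : (wittIdeal (⊥ : Ideal k) : Ideal W) = ⊥ := by
  ext x
  simp [mem_wittIdeal, WittVector.ext_iff]

theorem comap_mod_p (hM : IsGood p k M) {τ₁ τ₂ : W →+* W} (G : M →ₛₗ[τ₁] M) (H : M →ₛₗ[τ₂] M)
    (hGH : ∀ m, G (H m) = (p : W) • m) (hHG : ∀ m, H (G m) = (p : W) • m) :
    (𝔭 • (⊤ : Submodule W M)).comap G = Submodule.span W (Set.range H) ⊔ 𝔭 • (⊤ : Submodule W M) := by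
  have hred : ∀ a : k, IsNilpotent a → a = 0 := by
    rintro a ⟨n, hn⟩
    have hinj := (bijective_iterateFrobenius k p (n := n)).injective
    apply hinj
    rw [map_zero, iterateFrobenius_def]
    exact pow_eq_zero_of_le (Nat.lt_pow_self hp.out.one_lt).le hn
  refine le_antisymm (fun y hy => ?_) (sup_le (Submodule.span_le.2 ?_) ?_)
  · have h := mem_of_apply_mem hM G H hGH hHG ⊥
      (fun a ha => by
        obtain ⟨n, hn⟩ := ha
        exact (Submodule.mem_bot k).2 (hred a ⟨n, (Submodule.mem_bot k).1 hn⟩))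
      (fun x hx => by rw [wittIdeal_bot, Submodule.mem_bot] at hx ⊢; simp [hx]) (y := y)
    rw [wittIdeal_bot, bot_sup_eq] at h
    exact h hy
  · rintro _ ⟨m, rfl⟩
    rw [SetLike.mem_coe, Submodule.mem_comap]
    rw [hGH]
    exact Submodule.smul_mem_smul (Ideal.mem_span_singleton_self _) Submodule.mem_top
  · intro y hy
    obtain ⟨z, rfl⟩ := exists_smul_of_mem_p hy
    rw [Submodule.mem_comap]
    rw [map_smulₛₗ, map_natCast]
    exact Submodule.smul_mem_smul (Ideal.mem_span_singleton_self _) Submodule.mem_top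

variable (F : M →ₛₗ[(WittVector.frobenius : WittVector p k →+* WittVector p k)] M)
  (V : M →ₛₗ[((WittVector.frobeniusEquiv p k).symm : WittVector p k →+* WittVector p k)] M)

/-- The image of `V` modulo `p`. -/
noncomputable def imV : Submodule (W ⧸ 𝔭) (M ⧸ (𝔭 • (⊤ : Submodule W M))) :=
  Submodule.span (W ⧸ 𝔭) (Set.range fun m : M => (𝔭 • (⊤ : Submodule W M)).mkQ (V m))

theorem mem_imV {x : M ⧸ (𝔭 • (⊤ : Submodule W M))} :
    x ∈ imV V ↔ ∃ m, (𝔭 • (⊤ : Submodule W M)).mkQ (V m) = x := by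
  refine ⟨fun hx => ?_, fun ⟨m, hm⟩ => Submodule.subset_span ⟨m, hm⟩⟩
  induction hx using Submodule.span_induction with
  | mem x hx => exact hx
  | zero => exact ⟨0, by simp⟩
  | add x y _ _ hx hy =>
    obtain ⟨a, rfl⟩ := hx; obtain ⟨b, rfl⟩ := hy
    exact ⟨a + b, by simp⟩
  | smul c x _ hx =>
    obtain ⟨a, rfl⟩ := hx; obtain ⟨d, rfl⟩ := Ideal.Quotient.mk_surjective c
    refine ⟨σ d • a, ?_⟩
    rw [map_smulₛₗ, show τ (σ d) = d from (WittVector.frobeniusEquiv p k).symm_apply_apply d, map_smul]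
    rfl

theorem exists_isCompl_imV (hM : IsGood p k M) (hFV : ∀ m, F (V m) = (p : W) • m) (hVF : ∀ m, V (F m) = (p : W) • m)
    (hfin : Module.Finite (W ⧸ 𝔭) (M ⧸ (𝔭 • (⊤ : Submodule W M))))
    (hproj : Module.Projective (W ⧸ 𝔭) (M ⧸ (𝔭 • (⊤ : Submodule W M)))) :
    ∃ C, IsCompl (imV V) C := by
  set π := (𝔭 • (⊤ : Submodule W M)).mkQ
  refine exists_isCompl_of_pure _ ?_ fun 𝔪 hm => ?_
  · obtain ⟨S, hS⟩ := hfin.fg_top
    classical
    choose g hg using fun x : M ⧸ (𝔭 • (⊤ : Submodule W M)) => Submodule.mkQ_surjective _ x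
    refine ⟨S.image fun x => π (V (g x)), le_antisymm (Submodule.span_le.2 fun x hx => ?_) ?_⟩
    · obtain ⟨y, -, rfl⟩ := Finset.mem_image.1 hx
      exact Submodule.subset_span ⟨_, rfl⟩
    · rintro x hx
      obtain ⟨m, rfl⟩ := (mem_imV V).1 hx
      have : π m ∈ Submodule.span (W ⧸ 𝔭) (S : Set _) := hS ▸ Submodule.mem_top
      obtain ⟨c, hc, hmc⟩ := (Submodule.mem_span_finset).1 this
      choose d hd using fun y => Ideal.Quotient.mk_surjective (c y)
      have h1 : m - ∑ y ∈ S, d y • g y ∈ 𝔭 • (⊤ : Submodule W M) := by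
        rw [← Submodule.Quotient.mk_eq_zero]
        change π _ = 0
        rw [map_sub, map_sum, ← hmc, sub_eq_zero]
        refine Finset.sum_congr rfl fun y _ => ?_
        rw [map_smul, hg, ← hd]; rfl
      have h2 : π (V m) = ∑ y ∈ S, (Ideal.Quotient.mk 𝔭 (τ (d y))) • π (V (g y)) := by
        obtain ⟨z, hz⟩ := exists_smul_of_mem_p h1
        rw [eq_add_of_sub_eq hz.symm, map_add, map_smulₛₗ, map_natCast, map_add, map_sum, map_sum]
        have h0 : π ((p : W) • V z) = 0 := (Submodule.Quotient.mk_eq_zero _).2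
          (Submodule.smul_mem_smul (Ideal.mem_span_singleton_self _) Submodule.mem_top)
        rw [h0, zero_add]
        exact Finset.sum_congr rfl fun y _ => by rw [map_smulₛₗ, map_smul]; rfl
      rw [h2]
      exact Submodule.sum_mem _ fun y hy => Submodule.smul_mem _ _
        (Submodule.subset_span (Finset.mem_image.2 ⟨y, hy, rfl⟩))
  · rintro x ⟨hx, hx'⟩
    obtain ⟨y, rfl⟩ := (mem_imV V).1 hx
    let Mx : Ideal W := 𝔪.comap (Ideal.Quotient.mk 𝔭)
    let q : Ideal k := Ideal.map (WittVector.constantCoeff : W →+* k) Mx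
    have hker : RingHom.ker (WittVector.constantCoeff : W →+* k) ≤ Mx := by
      rw [WittVector.ker_constantCoeff]
      intro a ha
      simp [Mx, Ideal.mem_comap, Ideal.Quotient.eq_zero_iff_mem.2 ha]
    have hMx : Mx.IsMaximal := Ideal.comap_isMaximal_of_surjective _ Ideal.Quotient.mk_surjective
    have hq : q.IsMaximal := (Ideal.map_eq_top_or_isMaximal_of_surjective _ (WittVector.constantCoeff_surjective p) hMx).resolve_left
      fun h => hMx.ne_top (by
        have := congrArg (Ideal.comap (WittVector.constantCoeff : W →+* k)) h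
        rwa [Ideal.comap_map_of_surjective _ (WittVector.constantCoeff_surjective p), Ideal.comap_top,
          ← RingHom.ker_eq_comap_bot, sup_eq_left.2 hker] at this)
    have hqrad : q.IsRadical := hq.isPrime.isRadical
    have hMxq : Mx = wittIdeal q ⊔ 𝔭 := by
      ext a
      rw [mem_wittIdeal_sup_p, show a.coeff 0 = WittVector.constantCoeff a from rfl, ← Ideal.mem_comap]
      rw [Ideal.comap_map_of_surjective _ (WittVector.constantCoeff_surjective p), ← RingHom.ker_eq_comap_bot,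
        sup_eq_left.2 hker]
    -- `V y` lies in `Mx • ⊤`
    have hy : V y ∈ Mx • (⊤ : Submodule W M) := by
      have hmem : ∀ z, z ∈ 𝔪 • (⊤ : Submodule (W ⧸ 𝔭) (M ⧸ (𝔭 • (⊤ : Submodule W M)))) →
          ∃ u ∈ Mx • (⊤ : Submodule W M), π u = z := by
        intro z hz
        refine Submodule.smul_induction_on hz (fun a ha b _ => ?_) ?_
        · obtain ⟨a', rfl⟩ := Ideal.Quotient.mk_surjective a
          obtain ⟨b', rfl⟩ := Submodule.mkQ_surjective _ b
          exact ⟨a' • b', Submodule.smul_mem_smul ha Submodule.mem_top, by rw [map_smul]; rfl⟩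
        · rintro _ _ ⟨u, hu, rfl⟩ ⟨v, hv, rfl⟩
          exact ⟨u + v, add_mem hu hv, map_add _ _ _⟩
      obtain ⟨u, hu, huy⟩ := hmem _ hx'
      have h1 : V y - u ∈ 𝔭 • (⊤ : Submodule W M) := (Submodule.Quotient.eq _).1 huy.symm
      simpa using add_mem (Submodule.smul_mono_left (show 𝔭 ≤ Mx from hMxq ▸ le_sup_right) h1) hu
    rw [hMxq] at hy
    have hy2 := mem_of_apply_mem hM V F hVF hFV q hqrad (fun a ha => frobenius_mem_wittIdeal ha) hy
    obtain ⟨a, ha, b, hb, rfl⟩ := Submodule.mem_sup.1 hy2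
    obtain ⟨c, rfl⟩ := (range_span_eq F (WittVector.frobenius_bijective p k).surjective a).1 ha
    rw [map_add, map_add, show π (V (F c)) = 0 from (Submodule.Quotient.mk_eq_zero _).2 (by
      rw [hVF]; exact Submodule.smul_mem_smul (Ideal.mem_span_singleton_self _) Submodule.mem_top), zero_add]
    have hstable : ∀ x ∈ wittIdeal q ⊔ 𝔭, τ x ∈ Mx := by
      intro x hx
      rw [hMxq]
      rw [Submodule.mem_sup] at hx ⊢
      obtain ⟨u, hu, v, hv, rfl⟩ := hx
      obtain ⟨w, rfl⟩ := Ideal.mem_span_singleton'.1 hv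
      exact ⟨τ u, frobeniusEquiv_symm_mem_wittIdeal hqrad hu, τ w * (p : W),
        Ideal.mem_span_singleton'.2 ⟨_, rfl⟩, by rw [map_add, map_mul, map_natCast]⟩
    have hb' := semilin_mem V hstable hb
    refine Submodule.smul_induction_on hb' (fun r hr z hz => ?_) (fun u v hu hv => by rw [map_add]; exact add_mem hu hv)
    rw [map_smul]
    show (Ideal.Quotient.mk 𝔭 r) • π z ∈ 𝔪 • imV V
    refine Submodule.smul_mem_smul hr ?_
    obtain ⟨w, rfl⟩ := (range_span_eq V (WittVector.frobeniusEquiv p k).symm.surjective z).1 hz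
    exact Submodule.subset_span ⟨w, rfl⟩

theorem projective_quotient_imV (hM : IsGood p k M) (hFV : ∀ m, F (V m) = (p : W) • m)
    (hVF : ∀ m, V (F m) = (p : W) • m)
    (hfin : Module.Finite (W ⧸ 𝔭) (M ⧸ (𝔭 • (⊤ : Submodule W M))))
    (hproj : Module.Projective (W ⧸ 𝔭) (M ⧸ (𝔭 • (⊤ : Submodule W M)))) :
    Module.Projective (W ⧸ 𝔭) ((M ⧸ (𝔭 • (⊤ : Submodule W M))) ⧸ imV V) := by
  obtain ⟨C, hC⟩ := exists_isCompl_imV F V hM hFV hVF hfin hproj
  let e := Submodule.quotientEquivOfIsCompl _ C hC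
  refine Module.Projective.of_split (C.subtype.comp e.toLinearMap) (Submodule.mkQ _) ?_
  refine LinearMap.ext fun x => ?_
  show (imV V).mkQ ((e x : C) : M ⧸ _) = x
  exact (Submodule.quotientEquivOfIsCompl_symm_apply _ C hC (e x)).symm.trans (e.symm_apply_apply x)

theorem exists_complement_mod_p (hM : IsGood p k M) (hFV : ∀ m, F (V m) = (p : W) • m)
    (hVF : ∀ m, V (F m) = (p : W) • m)
    (hfin : Module.Finite (W ⧸ 𝔭) (M ⧸ (𝔭 • (⊤ : Submodule W M))))
    (hproj : Module.Projective (W ⧸ 𝔭) (M ⧸ (𝔭 • (⊤ : Submodule W M)))) :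
    ∃ C : Submodule W M, Submodule.span W (Set.range V) ⊔ C = ⊤ ∧
      Submodule.span W (Set.range V) ⊓ C = 𝔭 • (⊤ : Submodule W M) := by
  obtain ⟨C, hC⟩ := exists_isCompl_imV F V hM hFV hVF hfin hproj
  set π := (𝔭 • (⊤ : Submodule W M)).mkQ
  refine ⟨(C.restrictScalars W).comap π, ?_, le_antisymm ?_ (le_inf ?_ ?_)⟩
  · refine eq_top_iff.2 fun x _ => ?_
    have : π x ∈ imV V ⊔ C := hC.sup_eq_top ▸ Submodule.mem_top
    obtain ⟨a, ha, b, hb, hab⟩ := Submodule.mem_sup.1 this
    obtain ⟨m, rfl⟩ := (mem_imV V).1 ha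
    refine Submodule.mem_sup.2 ⟨V m, Submodule.subset_span ⟨m, rfl⟩, x - V m, ?_, add_sub_cancel _ _⟩
    show π (x - V m) ∈ C
    rwa [map_sub, ← hab, add_sub_cancel_left]
  · rintro x ⟨h1, h2⟩
    have : π x ∈ imV V ⊓ C := by
      refine ⟨?_, h2⟩
      obtain ⟨m, rfl⟩ := (range_span_eq V (WittVector.frobeniusEquiv p k).symm.surjective x).1 h1
      exact Submodule.subset_span ⟨m, rfl⟩
    rw [hC.inf_eq_bot, Submodule.mem_bot] at this
    exact (Submodule.Quotient.mk_eq_zero _).1 this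
  · intro x hx
    obtain ⟨z, rfl⟩ := exists_smul_of_mem_p hx
    exact Submodule.subset_span ⟨F z, hVF z⟩
  · intro x hx
    show π x ∈ C
    rw [show π x = 0 from (Submodule.Quotient.mk_eq_zero _).2 hx]
    exact C.zero_mem

end Groth.Agent.DispLib

namespace Groth.Agent.DispLib

open WittVector

set_option linter.unusedSectionVars false

variable {p : ℕ} [hp : Fact p.Prime] {k : Type*} [CommRing k] [CharP k p] [PerfectRing k p]
variable {M : Type*} [AddCommGroup M] [Module (WittVector p k) M]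

local notation "W" => WittVector p k
local notation "𝔭" => Ideal.span {(p : WittVector p k)}

theorem finite_projective_mod_p {B : Type*} [CommRing B] [Algebra W B] [Module B M] [IsScalarTower W B M]
    [Module.Finite B M] [Module.Projective B M] (hsurj : Function.Surjective (algebraMap W B))
    (ρ : B →ₐ[W] W ⧸ 𝔭) :
    Module.Finite (W ⧸ 𝔭) (M ⧸ (𝔭 • (⊤ : Submodule W M))) ∧
      Module.Projective (W ⧸ 𝔭) (M ⧸ (𝔭 • (⊤ : Submodule W M))) := by
  classical
  obtain ⟨n, π, s, hs⟩ := exists_retraction (A := B) (M := M)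
  set q := (𝔭 • (⊤ : Submodule W M)).mkQ
  let P : (Fin n → W ⧸ 𝔭) →ₗ[W ⧸ 𝔭] (M ⧸ (𝔭 • (⊤ : Submodule W M))) :=
    Fintype.linearCombination (W ⧸ 𝔭) fun i => q (π (Pi.single i 1))
  let S₀ : M →ₗ[W] (Fin n → W ⧸ 𝔭) :=
    LinearMap.pi fun i => (ρ.toLinearMap).comp ((LinearMap.proj i).comp (s.restrictScalars W))
  have hS₀ : 𝔭 • (⊤ : Submodule W M) ≤ LinearMap.ker S₀ := by
    intro x hx
    obtain ⟨z, rfl⟩ := exists_smul_of_mem_p hx
    refine funext fun i => ?_
    rw [map_smul, Pi.smul_apply, Algebra.smul_def, Ideal.Quotient.algebraMap_eq,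
      Ideal.Quotient.eq_zero_iff_mem.2 (Ideal.mem_span_singleton_self _), zero_mul]
    rfl
  let S : (M ⧸ (𝔭 • (⊤ : Submodule W M))) →ₗ[W ⧸ 𝔭] (Fin n → W ⧸ 𝔭) :=
    LinearMap.extendScalarsOfSurjective (R := W) Ideal.Quotient.mk_surjective
      ((𝔭 • (⊤ : Submodule W M)).liftQ S₀ hS₀)
  have hPS : P.comp S = LinearMap.id := by
    refine LinearMap.ext fun x => ?_
    obtain ⟨y, rfl⟩ := Submodule.mkQ_surjective _ x
    show P (S₀ y) = q y
    conv_rhs => rw [show y = π (s y) from (LinearMap.congr_fun hs y).symm, pi_apply_eq_sum π, map_sum]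
    rw [show P (S₀ y) = ∑ i, S₀ y i • q (π (Pi.single i 1)) from Fintype.linearCombination_apply ..]
    refine Finset.sum_congr rfl fun i _ => ?_
    obtain ⟨c, hc⟩ := hsurj (s y i)
    rw [← hc, algebraMap_smul, map_smul]
    show (ρ (s y i)) • _ = c • _
    rw [← hc, AlgHom.commutes, algebraMap_smul]
  refine ⟨Module.Finite.of_surjective P fun x => ⟨S x, LinearMap.congr_fun hPS x⟩, ?_⟩
  exact Module.Projective.of_split S P hPS

end Groth.Agent.DispLib
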