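import Groth.Agent.DispLib.WittSqZero
import Groth.Agent.DispLib.IterateBC
import Groth.Agent.S16540

/-! Rigidity of homomorphisms of displays along nilpotent ideals. -/

namespace Groth.Agent.DispLib

open W4c1extbt610

universe u

section DualBasis

variable {A : Type*} [CommRing A] {P : Type*} [AddCommGroup P] [Module A P]

theorem exists_dualBasis [Module.Finite A P] [Module.Projective A P] :
    ∃ (n : ℕ) (c : Fin n → (P →ₗ[A] A)) (e : Fin n → P), ∀ x, x = ∑ i, c i x • e i := by
  obtain ⟨n, π, hπ⟩ := Module.Finite.exists_fin' A P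
  obtain ⟨s, hs⟩ := Module.projective_lifting_property π LinearMap.id hπ
  refine ⟨n, fun i => (LinearMap.proj i).comp s, fun i => π (Pi.single i 1), fun x => ?_⟩
  conv_lhs => rw [show x = π (s x) from (LinearMap.congr_fun hs x).symm, pi_eq_sum_univ' (s x), map_sum]
  exact Finset.sum_congr rfl fun i _ => by rw [map_smul]; rfl

variable {B : Type*} [CommRing B] (g : A →+* B)

/-- `1 ⊗ x = 0` iff `x ∈ ker g • P` -/
theorem bc_tmul_one_eq_zero_iff [Module.Finite A P] [Module.Projective A P] (x : P) :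
    Dieu.BC.tmul g 1 x = 0 ↔ x ∈ RingHom.ker g • (⊤ : Submodule A P) := by
  constructor
  · intro h
    obtain ⟨n, c, e, he⟩ := exists_dualBasis (A := A) (P := P)
    rw [he x]
    refine sum_mem fun i _ => Submodule.smul_mem_smul ?_ Submodule.mem_top
    have := congrArg (formBC g (c i)) h
    rw [formBC_tmul, one_mul, map_zero] at this
    exact this
  · intro h
    have := bc_tmul_mem_smul_top g (J := (⊥ : Ideal B)) (fun a ha => (RingHom.mem_ker.1 ha : g a = 0)) h 1
    simpa using this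

theorem bc_tmul_one_injective [Module.Finite A P] [Module.Projective A P] (hg : Function.Injective g) :
    Function.Injective (Dieu.BC.tmul g 1 : P → Dieu.BC g P) := by
  intro x y h
  have h' : Dieu.BC.ι g P (x - y) = 0 := by rw [map_sub, Dieu.BC.ι_apply, Dieu.BC.ι_apply, h, sub_self]
  rw [Dieu.BC.ι_apply, bc_tmul_one_eq_zero_iff, (RingHom.injective_iff_ker_eq_bot g).1 hg, Submodule.bot_smul,
    Submodule.mem_bot, sub_eq_zero] at h'
  exact h'

theorem bc_map_eq_zero_iff {P' : Type*} [AddCommGroup P'] [Module A P'] [Module.Finite A P']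
    [Module.Projective A P'] (δ : P →ₗ[A] P') :
    Dieu.BC.map g δ = 0 ↔ ∀ x, δ x ∈ RingHom.ker g • (⊤ : Submodule A P') := by
  constructor
  · intro h x
    rw [← bc_tmul_one_eq_zero_iff, ← Dieu.BC.map_tmul, h, LinearMap.zero_apply]
  · intro h
    refine Dieu.BC.ext g fun x => ?_
    rw [Dieu.BC.map_tmul, LinearMap.zero_apply, bc_tmul_one_eq_zero_iff]
    exact h x

end DualBasis

variable {p : ℕ} [hp : Fact p.Prime]

section OneStep

variable {R : Type u} [CommRing R]
variable {P P' : Type*} [AddCommGroup P] [Module (WittVector p R) P] [AddCommGroup P'] [Module (WittVector p R) P']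

local notation "σ" => (WittVector.frobenius : WittVector p R →+* WittVector p R)

/-- A homomorphism from a display which vanishes modulo a square-zero, `p`-killed ideal vanishes. -/
theorem isHom_eq_zero_of_mem_sqZero {D : Display3n p R P} {D' : Display3n p R P'} (hD : Dieu.IsDisplay D)
    {δ : P →ₗ[WittVector p R] P'} (hδ : IsHom D D' δ) {𝔞 : Ideal R} (h2 : ∀ a ∈ 𝔞, ∀ b ∈ 𝔞, a * b = 0)
    (hpa : ∀ a ∈ 𝔞, (p : R) * a = 0)
    (hval : ∀ x, δ x ∈ wIdeal p 𝔞 • (⊤ : Submodule (WittVector p R) P')) : δ = 0 := by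
  classical
  obtain ⟨Vs, hVs, n, hn⟩ := hD
  obtain ⟨C⟩ := nonempty_coords D'
  let K := wIdeal p 𝔞
  let M : Submodule (WittVector p R) P' := K • ⊤
  have hcM : ∀ i, ∀ z ∈ M, C.c i z ∈ K := by
    intro i z hz
    refine Submodule.smul_induction_on hz (fun a ha y _ => ?_) (fun u v hu hv => by rw [map_add]; exact add_mem hu hv)
    rw [map_smul]
    exact Ideal.mul_mem_right _ _ ha
  let G : P' → P' := fun z => ∑ i, wshift (C.c i z) • D'.F (C.t i)
  have G_mem : ∀ z ∈ M, G z ∈ M := fun z hz =>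
    sum_mem fun i _ => Submodule.smul_mem_smul (wshift_mem (hcM i z hz)) Submodule.mem_top
  have G_add : ∀ z₁ ∈ M, ∀ z₂ ∈ M, G (z₁ + z₂) = G z₁ + G z₂ := by
    intro z₁ h₁ z₂ h₂
    simp only [G, map_add, ← Finset.sum_add_distrib]
    refine Finset.sum_congr rfl fun i _ => ?_
    rw [wshift_add h2 (hcM i _ h₁) (hcM i _ h₂), add_smul]
  have G_smul : ∀ (w : WittVector p R), ∀ z ∈ M, G (w • z) = σ w • G z := by
    intro w z hz
    simp only [G, Finset.smul_sum, map_smul, smul_eq_mul]
    refine Finset.sum_congr rfl fun i _ => ?_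
    rw [wshift_mul h2 w (hcM i z hz), mul_smul]
  have G_zero : G 0 = 0 := by
    have := G_smul 0 0 (zero_mem M)
    simpa using this
  have G_Vinv : ∀ (z : D'.Q), (z : P') ∈ M → G z = D'.Vinv z := by
    intro z hz
    have hmem : ∀ i, C.c i z • C.t i ∈ D'.Q := fun i =>
      D'.IV_smul_le (Submodule.smul_mem_smul (C.c_mem i z z.2) Submodule.mem_top)
    have hdec : z = (⟨C.e z, C.e_mem z⟩ : D'.Q) + ∑ i, (⟨C.c i z • C.t i, hmem i⟩ : D'.Q) := Subtype.ext (by
      rw [Submodule.coe_add, Submodule.coe_sum]; exact C.decomp z)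
    have he : D'.Vinv ⟨C.e z, C.e_mem z⟩ = 0 := by
      have key : ∀ y ∈ M, ∀ h : C.e y ∈ D'.Q, D'.Vinv ⟨C.e y, h⟩ = 0 := by
        intro y hy
        refine Submodule.smul_induction_on hy (fun a ha x _ h => ?_) (fun u v hu hv h => ?_)
        · have : (⟨C.e (a • x), h⟩ : D'.Q) = a • ⟨C.e x, C.e_mem x⟩ := Subtype.ext (map_smul C.e a x)
          rw [this, map_smulₛₗ, frobenius_eq_zero h2 hpa ha, zero_smul]
        · have : (⟨C.e (u + v), h⟩ : D'.Q) = ⟨C.e u, C.e_mem u⟩ + ⟨C.e v, C.e_mem v⟩ :=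
            Subtype.ext (map_add C.e u v)
          rw [this, map_add, hu, hv, add_zero]
      exact key _ hz _
    conv_rhs => rw [hdec, map_add, map_sum, he, zero_add]
    refine Finset.sum_congr rfl fun i _ => ?_
    obtain ⟨u, hu⟩ := mem_IV_iff.1 (C.c_mem i z z.2)
    rw [Vinv_eq D' u hu (hmem i), ← hu, wshift_verschiebung]
  -- `G ∘ δ`
  let Gδ : P →ₛₗ[σ] P' :=
    { toFun := fun x => G (δ x)
      map_add' := fun x y => by rw [map_add, G_add _ (hval x) _ (hval y)]
      map_smul' := fun a x => by rw [map_smul, G_smul a _ (hval x)] }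
  have hL₁ : ∀ x : P, Dieu.BC.lift σ Gδ (Vs x) = δ x := by
    intro x
    have hx : x ∈ Submodule.span (WittVector p R) (Set.range D.Vinv) := D.span_range_Vinv ▸ Submodule.mem_top
    refine LinearMap.eqOn_span (f := (Dieu.BC.lift σ Gδ).comp Vs) (g := δ) ?_ hx
    rintro _ ⟨y, rfl⟩
    have h1 := hVs.app_smul_Vinv 1 y
    rw [one_smul] at h1
    rw [LinearMap.comp_apply, h1, Dieu.BC.lift_tmul, one_smul, hδ.comm_Vinv y]
    exact G_Vinv ⟨δ y, hδ.mapsTo y y.2⟩ (hval y)
  have main : ∀ m : ℕ, ∃ L : Dieu.BC ((σ : WittVector p R →+* WittVector p R) ^ (m + 1)) P →ₗ[WittVector p R] P',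
      (∀ z, L z ∈ M) ∧ ∀ x, L (Dieu.vSharpPow Vs m x) = δ x := by
    intro m
    induction m with
    | zero =>
      refine ⟨(Dieu.BC.lift σ Gδ).comp (Dieu.BC.castHom (pow_one σ)), fun z => ?_, fun x => ?_⟩
      · rw [LinearMap.comp_apply]
        exact forall_bc_mem _ M (fun x => by
          rw [Dieu.BC.lift_tmul, one_smul]; exact G_mem _ (hval x)) _
      · rw [Dieu.vSharpPow_zero_apply, LinearMap.comp_apply]
        refine Eq.trans (congrArg _ ?_) (hL₁ x)
        induction Vs x using Dieu.BC.induction_on σ with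
        | zero => simp
        | add u v hu hv => simp only [map_add, hu, hv]
        | tmul w y => simp
    | succ m ih =>
      obtain ⟨L, hLM, hL⟩ := ih
      let φ : P →ₛₗ[σ ^ (m + 1 + 1)] P' :=
        { toFun := fun y => G (L (Dieu.BC.tmul (σ ^ (m + 1)) 1 y))
          map_add' := fun y₁ y₂ => by rw [Dieu.BC.tmul_add, map_add, G_add _ (hLM _) _ (hLM _)]
          map_smul' := fun a y => by
            rw [← Dieu.BC.tmul_apply_eq, Dieu.BC.tmul_eq_smul_tmul_one, map_smul, G_smul _ _ (hLM _),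
              ← Dieu.comp_pow_eq_pow_succ σ (m + 1)]
            rfl }
      refine ⟨Dieu.BC.lift (σ ^ (m + 1 + 1)) φ, fun z => forall_bc_mem _ M (fun y => by
        rw [Dieu.BC.lift_tmul, one_smul]; exact G_mem _ (hLM _)) z, fun x => ?_⟩
      rw [Dieu.vSharpPow_succ_apply]
      refine Eq.trans ?_ (hL₁ x)
      induction Vs x using Dieu.BC.induction_on σ with
      | zero => simp
      | add u v hu hv => simp only [map_add, hu, hv]
      | tmul w y =>
        rw [Dieu.BC.map_tmul, Dieu.BC.lift_tmul, map_smul, map_smul, Dieu.BC.lift_tmul]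
        congr 1
        show _ = G (δ y)
        rw [← hL y]
        induction Dieu.vSharpPow Vs m y using Dieu.BC.induction_on (σ ^ (m + 1)) with
        | zero => simp [G_zero]
        | add u v hu hv => rw [map_add, map_add, map_add, hu, hv, map_add, G_add _ (hLM _) _ (hLM _)]
        | tmul c q =>
          rw [Dieu.BC.push_tmul, Dieu.BC.castHom_tmul, Dieu.BC.lift_tmul, Dieu.BC.tmul_eq_smul_tmul_one _ c q,
            map_smul, G_smul _ _ (hLM _)]
          rfl
  obtain ⟨L, hLM, hL⟩ := main n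
  refine LinearMap.ext fun x => ?_
  rw [← hL x, LinearMap.zero_apply]
  refine Submodule.smul_induction_on (hn x) (fun a ha z _ => ?_) (fun u v hu hv => by rw [map_add, hu, hv, add_zero])
  rw [map_smul]
  refine Submodule.smul_induction_on (hLM z) (fun k hk y _ => ?_) (fun u v hu hv => by rw [smul_add, hu, hv, add_zero])
  rw [← mul_smul, mul_eq_zero_of_mem h2 hpa ha hk, zero_smul]

end OneStep

variable {S R : Type u} [CommRing S] [CommRing R] (f : S →+* R)
variable {P P' : Type*} [AddCommGroup P] [Module (WittVector p S) P] [AddCommGroup P'] [Module (WittVector p S) P']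

local notation "g" => (WittVector.map f : WittVector p S →+* WittVector p R)

/-- base change of a homomorphism of 3n-displays -/
theorem isHom_baseChange {D : Display3n p S P} {D' : Display3n p S P'} {DR : Display3n p R (Dieu.BC g P)}
    {DR' : Display3n p R (Dieu.BC g P')} (hDR : Dieu.IsDispBaseChange f D DR) (hDR' : Dieu.IsDispBaseChange f D' DR')
    {ψ : P →ₗ[WittVector p S] P'} (hψ : IsHom D D' ψ) : IsHom DR DR' (Dieu.BC.map g ψ) := by
  have key : ∀ z : LinearMap.ker (Dieu.bcQuotMap f D.Q), ∃ h : Dieu.BC.map g ψ z ∈ DR'.Q,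
      Dieu.BC.map g ψ (DR.Vinv ⟨z, hDR.Q_eq.symm ▸ z.2⟩) = DR'.Vinv ⟨_, h⟩ := by
    intro z
    induction z using QR_induction D f with
    | tmul w y hy =>
      have h' : Dieu.BC.tmul g w (ψ (y : P)) ∈ DR'.Q := by
        rw [hDR'.Q_eq]; exact bcQuotMap_tmul_eq_zero D' f (hψ.mapsTo y y.2) w
      have hb : Dieu.BC.map g ψ (Dieu.BC.tmul g w (y : P)) ∈ DR'.Q := by rw [Dieu.BC.map_tmul]; exact h'
      refine ⟨hb, ?_⟩
      rw [hDR.Vinv_tmul w y, Dieu.BC.map_tmul, hψ.comm_Vinv y, ← hDR'.Vinv_tmul w ⟨ψ y, hψ.mapsTo y y.2⟩ h']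
      exact congrArg DR'.Vinv (Subtype.ext (Dieu.BC.map_tmul g ψ w (y : P)).symm)
    | vtmul u x hx =>
      have h' : Dieu.BC.tmul g (WittVector.verschiebung u) (ψ x) ∈ DR'.Q := by
        rw [Dieu.BC.tmul_eq_smul_tmul_one]
        exact DR'.IV_smul_le (Submodule.smul_mem_smul (verschiebung_mem_IV p R u) Submodule.mem_top)
      have hb : Dieu.BC.map g ψ (Dieu.BC.tmul g (WittVector.verschiebung u) x) ∈ DR'.Q := by
        rw [Dieu.BC.map_tmul]; exact h'
      refine ⟨hb, ?_⟩
      rw [hDR.Vinv_verschiebung_tmul u x, Dieu.BC.map_tmul, hψ.comm_F x, ← hDR'.Vinv_verschiebung_tmul u (ψ x) h']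
      exact congrArg DR'.Vinv (Subtype.ext (Dieu.BC.map_tmul g ψ _ x).symm)
    | add a b ha hb =>
      obtain ⟨ha₁, ha₂⟩ := ha
      obtain ⟨hb₁, hb₂⟩ := hb
      have h : Dieu.BC.map g ψ ((a + b : LinearMap.ker (Dieu.bcQuotMap f D.Q)) : Dieu.BC g P) ∈ DR'.Q := by
        rw [Submodule.coe_add, map_add]; exact add_mem ha₁ hb₁
      refine ⟨h, ?_⟩
      have e : (⟨_, h⟩ : DR'.Q) = ⟨_, ha₁⟩ + ⟨_, hb₁⟩ :=
        Subtype.ext (by simp only [Submodule.coe_add, map_add])
      rw [e, map_add DR'.Vinv, ← ha₂, ← hb₂, ← map_add (Dieu.BC.map g ψ), ← map_add DR.Vinv]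
      exact congrArg _ (congrArg DR.Vinv (Subtype.ext rfl))
  refine ⟨fun q hq => (key ⟨q, hDR.Q_eq ▸ hq⟩).1, fun z => ?_, fun q => (key ⟨q, hDR.Q_eq ▸ q.2⟩).2⟩
  induction z using Dieu.BC.induction_on g with
  | zero => simp
  | tmul w x => rw [hDR.F_tmul, Dieu.BC.map_tmul, Dieu.BC.map_tmul, hDR'.F_tmul, hψ.comm_F]
  | add a b ha hb => rw [map_add, map_add, map_add, map_add, ha, hb]

/-- The reduction along a nilpotent kernel is injective on homomorphisms of displays. -/
theorem isHom_eq_zero_of_bc_map_eq_zero (hpn : IsNilpotent (p : S)) (hker : IsNilpotent (RingHom.ker f))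
    {D : Display3n p S P} {D' : Display3n p S P'} (hD : Dieu.IsDisplay D) {ψ : P →ₗ[WittVector p S] P'}
    (hψ : IsHom D D' ψ) (h : Dieu.BC.map g ψ = 0) : ψ = 0 := by
  have := D'.finite
  have := D'.projective
  let b : ℕ → Ideal S := fun i =>
    Nat.rec (motive := fun _ => Ideal S) (RingHom.ker f) (fun _ bi => bi * (bi ⊔ Ideal.span {(p : S)})) i
  have hb : ∀ i, b i ≤ (RingHom.ker f ⊔ Ideal.span {(p : S)}) ^ i := by
    intro i
    induction i with
    | zero => simp
    | succ i ih =>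
      have h0 : ∀ j, b j ≤ RingHom.ker f := fun j => by
        induction j with
        | zero => exact le_rfl
        | succ j ihj => exact Ideal.mul_le_left.trans ihj
      rw [pow_succ]
      exact Ideal.mul_mono ih (sup_le_sup_right (h0 i) _)
  have hstep : ∀ i, ∀ x, ψ x ∈ wIdeal p (b i) • (⊤ : Submodule (WittVector p S) P') := by
    intro i
    induction i with
    | zero =>
      intro x
      refine Submodule.smul_mono_left ?_ ((bc_map_eq_zero_iff g ψ).1 h x)
      intro w hw
      refine mem_wIdeal.2 fun n => ?_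
      show f (w.coeff n) = 0
      rw [← WittVector.map_coeff, RingHom.mem_ker.1 hw, WittVector.zero_coeff]
    | succ i ih =>
      let q : S →+* S ⧸ b (i + 1) := Ideal.Quotient.mk (b (i + 1))
      let gq : WittVector p S →+* WittVector p (S ⧸ b (i + 1)) := WittVector.map q
      obtain ⟨C⟩ := nonempty_coords D
      obtain ⟨C'⟩ := nonempty_coords D'
      have hδ := isHom_baseChange q (isDispBaseChange_baseChange D q C) (isDispBaseChange_baseChange D' q C') hψ
      have hDq : Dieu.IsDisplay (baseChange D q C) :=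
        Groth.Agent.S16540.result p S _ hpn q P D hD _ (isDispBaseChange_baseChange D q C)
      have hz := isHom_eq_zero_of_mem_sqZero hDq hδ (𝔞 := (b i).map q) (fun a ha c hc => ?_) (fun a ha => ?_)
        (forall_bc_mem _ _ fun x => ?_)
      · exact (bc_map_eq_zero_iff gq ψ).1 hz
      · obtain ⟨a, ha', rfl⟩ := (Ideal.mem_map_iff_of_surjective q Ideal.Quotient.mk_surjective).1 ha
        obtain ⟨c, hc', rfl⟩ := (Ideal.mem_map_iff_of_surjective q Ideal.Quotient.mk_surjective).1 hc
        rw [← map_mul]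
        exact Ideal.Quotient.eq_zero_iff_mem.2 (Ideal.mul_mem_mul ha' (Ideal.mem_sup_left hc'))
      · obtain ⟨a, ha', rfl⟩ := (Ideal.mem_map_iff_of_surjective q Ideal.Quotient.mk_surjective).1 ha
        rw [← map_natCast q, ← map_mul, mul_comm]
        exact Ideal.Quotient.eq_zero_iff_mem.2
          (Ideal.mul_mem_mul ha' (Ideal.mem_sup_right (Ideal.mem_span_singleton_self _)))
      · rw [Dieu.BC.map_tmul]
        refine bc_tmul_mem_smul_top gq (fun a ha => mem_wIdeal.2 fun n => ?_) (ih x) 1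
        rw [WittVector.map_coeff]
        exact Ideal.mem_map_of_mem _ (mem_wIdeal.1 ha n)
  obtain ⟨m, hm⟩ : IsNilpotent (RingHom.ker f ⊔ Ideal.span {(p : S)}) := by
    refine Commute.isNilpotent_add (Commute.all _ _) hker ?_
    obtain ⟨k, hk⟩ := hpn
    exact ⟨k, by rw [Ideal.span_singleton_pow, hk, Ideal.span_singleton_eq_bot.2 rfl]; rfl⟩
  refine LinearMap.ext fun x => ?_
  have hx := hstep m x
  have hK : wIdeal p (b m) = ⊥ := by
    rw [eq_bot_iff]
    intro w hw
    refine WittVector.ext fun n => ?_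
    have hbot : b m ≤ ⊥ := (hb m).trans_eq hm
    simpa using hbot (mem_wIdeal.1 hw n)
  rw [hK, Submodule.bot_smul, Submodule.mem_bot] at hx
  exact hx

end Groth.Agent.DispLib
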