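import Mathlib.LinearAlgebra.Basis.Defs
import Mathlib.RingTheory.Ideal.Operations
import Mathlib.RingTheory.Ideal.Maps
import Mathlib.LinearAlgebra.Basis.Basic

/-! Lifting maps commuting with semilinear endomorphisms by successive approximation. -/

namespace Groth.Agent.DispLib

variable {A : Type*} [CommRing A] {σ : A →+* A} {P₁ P₂ : Type*} [AddCommGroup P₁] [Module A P₁]
  [AddCommGroup P₂] [Module A P₂] {ι : Type*}

theorem semilin_apply_mem_smul_top (F : P₂ →ₛₗ[σ] P₂) (c : Ideal A) {x : P₂}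
    (hx : x ∈ c • (⊤ : Submodule A P₂)) : F x ∈ Ideal.map σ c • (⊤ : Submodule A P₂) := by
  refine Submodule.smul_induction_on hx (fun a ha y _ => ?_) (fun u v hu hv => ?_)
  · rw [map_smulₛₗ]
    exact Submodule.smul_mem_smul (Ideal.mem_map_of_mem σ ha) Submodule.mem_top
  · rw [map_add]; exact add_mem hu hv

theorem forall_mem_of_basis {P : Type*} [AddCommGroup P] [Module A P] (b : Module.Basis ι A P)
    (g : P →ₗ[A] P₂) (N : Submodule A P₂) (h : ∀ i, g (b i) ∈ N) (x : P) : g x ∈ N := by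
  have : Submodule.span A (Set.range b) ≤ N.comap g :=
    Submodule.span_le.2 (by rintro _ ⟨i, rfl⟩; exact h i)
  exact this (b.span_eq ▸ Submodule.mem_top)

theorem exists_fixed (b : Module.Basis ι A P₁) (F₁ : P₁ →ₛₗ[σ] P₁) (F₂ : P₂ →ₛₗ[σ] P₂)
    (hli : LinearIndependent A (fun i => F₁ (b i)))
    (hsp : Submodule.span A (Set.range fun i => F₁ (b i)) = ⊤)
    (c : Ideal A) (hc : ∀ x ∈ c, σ x ∈ c) (m : ℕ) (hm : ∀ x ∈ c, σ^[m] x = 0)
    (α₀ : P₁ →ₗ[A] P₂) (hα₀ : ∀ x, F₂ (α₀ x) - α₀ (F₁ x) ∈ c • (⊤ : Submodule A P₂)) :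
    (∃ α : P₁ →ₗ[A] P₂, (∀ x, α x - α₀ x ∈ c • (⊤ : Submodule A P₂)) ∧ ∀ x, F₂ (α x) = α (F₁ x)) ∧
      ∀ γ : P₁ →ₗ[A] P₂, (∀ x, γ x ∈ c • (⊤ : Submodule A P₂)) → (∀ x, F₂ (γ x) = γ (F₁ x)) → γ = 0 := by
  let b' : Module.Basis ι A P₁ := Module.Basis.mk hli hsp.ge
  have hb' : ∀ i, b' i = F₁ (b i) := fun i => by simp [b']
  let Φ : (P₁ →ₗ[A] P₂) →+ (P₁ →ₗ[A] P₂) :=
    { toFun := fun α => b'.constr A fun i => F₂ (α (b i))
      map_zero' := b'.ext fun i => by simp
      map_add' := fun α β => b'.ext fun i => by simp }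
  have hΦb : ∀ α i, Φ α (F₁ (b i)) = F₂ (α (b i)) := fun α i => by
    rw [← hb']; exact b'.constr_basis A _ i
  have hfix : ∀ α, Φ α = α → ∀ x, F₂ (α x) = α (F₁ x) := by
    intro α hα x
    have : F₂.comp α = α.comp F₁ := b.ext fun i => by
      simp only [LinearMap.comp_apply]
      rw [← hΦb α i, hα]
    exact LinearMap.congr_fun this x
  let cs : ℕ → Ideal A := fun j => (Ideal.map σ)^[j] c
  have cs_succ : ∀ j, cs (j + 1) = Ideal.map σ (cs j) := fun j => Function.iterate_succ_apply' _ _ _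
  have cs_le : ∀ j, cs j ≤ c := by
    intro j
    induction j with
    | zero => exact le_rfl
    | succ j ih =>
      rw [cs_succ, Ideal.map_le_iff_le_comap]
      exact fun x hx => hc x (ih hx)
  have cs_span : ∀ j, cs j ≤ Ideal.span ((σ^[j]) '' c) := by
    intro j
    induction j with
    | zero => intro x hx; exact Ideal.subset_span ⟨x, hx, rfl⟩
    | succ j ih =>
      rw [cs_succ]
      refine (Ideal.map_mono ih).trans ?_
      rw [Ideal.map_span, Ideal.span_le]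
      rintro _ ⟨_, ⟨x, hx, rfl⟩, rfl⟩
      exact Ideal.subset_span ⟨x, hx, Function.iterate_succ_apply' _ _ _⟩
  have cs_m : cs m = ⊥ := by
    refine le_bot_iff.1 ((cs_span m).trans (Ideal.span_le.2 ?_))
    rintro _ ⟨x, hx, rfl⟩
    simp [hm x hx]
  have hiter : ∀ γ : P₁ →ₗ[A] P₂, (∀ x, γ x ∈ c • (⊤ : Submodule A P₂)) →
      ∀ j x, (Φ^[j] γ) x ∈ cs j • (⊤ : Submodule A P₂) := by
    intro γ hγ j
    induction j with
    | zero => exact hγ
    | succ j ih =>
      rw [Function.iterate_succ_apply', cs_succ]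
      refine forall_mem_of_basis b' _ _ fun i => ?_
      rw [hb', hΦb]
      exact semilin_apply_mem_smul_top F₂ _ (ih _)
  have hzero : ∀ γ : P₁ →ₗ[A] P₂, (∀ x, γ x ∈ c • (⊤ : Submodule A P₂)) → Φ^[m] γ = 0 := by
    intro γ hγ
    ext x
    simpa [cs_m] using hiter γ hγ m x
  refine ⟨?_, fun γ hγ hcomm => ?_⟩
  · set δ := Φ α₀ - α₀ with hδdef
    have hδ : ∀ x, δ x ∈ c • (⊤ : Submodule A P₂) := by
      refine forall_mem_of_basis b' _ _ fun i => ?_
      simp only [hδdef, LinearMap.sub_apply, hb', hΦb]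
      exact hα₀ _
    refine ⟨α₀ + ∑ j ∈ Finset.range m, Φ^[j] δ, fun x => ?_, hfix _ ?_⟩
    · simp only [LinearMap.add_apply, add_sub_cancel_left, LinearMap.sum_apply]
      exact Submodule.sum_mem _ fun j _ => Submodule.smul_mono_left (cs_le j) (hiter δ hδ j x)
    · have e : Φ α₀ = α₀ + δ := by rw [hδdef]; abel
      simp only [map_add, map_sum, ← Function.iterate_succ_apply' (f := ⇑Φ), e]
      have h1 := Finset.sum_range_succ' (fun j => Φ^[j] δ) m
      rw [Finset.sum_range_succ, hzero δ hδ, add_zero] at h1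
      rw [h1, Function.iterate_zero_apply]
      abel
  · have : Φ γ = γ := b'.ext fun i => by rw [hb', hΦb, hcomm]
    rw [← hzero γ hγ, Function.iterate_fixed this]

end Groth.Agent.DispLib
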