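import Groth.Agent.DispLib.Basic
import Groth.Agent.DispLib.BCTools
import Groth.Agent.DispLib.Complete
import Mathlib.Algebra.Module.Torsion.Basic
import Mathlib.LinearAlgebra.Dimension.Constructions
import Mathlib.LinearAlgebra.FiniteDimensional.Lemmas
import Mathlib.RingTheory.Nakayama
import Mathlib.RingTheory.Finiteness.Prod
import Mathlib.Algebra.Module.Projective
import Mathlib.RingTheory.WittVector.Teichmuller

/-! `V⁻¹ ⊕ F` is a Frobenius-linear isomorphism; existence and uniqueness of `V^#`. -/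

namespace Groth.Agent.DispLib

open W4c1extbt610

variable {A : Type*} [CommRing A]

theorem finrank_bc_quot_le (g : A →+* A) (𝔪 : Ideal A) [𝔪.IsMaximal] (hg : ∀ a ∈ 𝔪, g a ∈ 𝔪)
    {X : Type*} [AddCommGroup X] [Module A X] [Module.Finite A X] :
    Module.finrank (A ⧸ 𝔪) (Dieu.BC g X ⧸ (𝔪 • (⊤ : Submodule A (Dieu.BC g X)))) ≤
      Module.finrank (A ⧸ 𝔪) (X ⧸ (𝔪 • (⊤ : Submodule A X))) := by
  let _ := Ideal.Quotient.field 𝔪
  have : Module.Finite (A ⧸ 𝔪) (X ⧸ (𝔪 • (⊤ : Submodule A X))) := Module.Finite.of_restrictScalars_finite A _ _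
  let b := Module.finBasis (A ⧸ 𝔪) (X ⧸ (𝔪 • (⊤ : Submodule A X)))
  choose x hx using fun i => Submodule.mkQ_surjective _ (b i)
  have hgen : ∀ z : X, ∃ c : _ → A, z - ∑ i, c i • x i ∈ 𝔪 • (⊤ : Submodule A X) := by
    intro z
    choose c hc using fun i => Ideal.Quotient.mk_surjective (b.repr (Submodule.Quotient.mk z) i)
    refine ⟨c, ?_⟩
    rw [← Submodule.Quotient.mk_eq_zero]
    change Submodule.mkQ _ _ = 0
    rw [map_sub, map_sum, sub_eq_zero]
    conv_lhs => rw [show Submodule.mkQ (𝔪 • (⊤ : Submodule A X)) z = _ from (b.sum_repr _).symm]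
    exact Finset.sum_congr rfl fun i _ => by
      rw [map_smul, hx]
      show _ = (Ideal.Quotient.mk 𝔪 (c i)) • b i
      rw [hc]
      rfl
  let v : Fin _ → Dieu.BC g X ⧸ (𝔪 • (⊤ : Submodule A (Dieu.BC g X))) := fun i =>
    Submodule.Quotient.mk (Dieu.BC.tmul g 1 (x i))
  have hspan : Submodule.span (A ⧸ 𝔪) (Set.range v) = ⊤ := by
    refine eq_top_iff.2 fun q hq => ?_
    clear hq
    obtain ⟨z, rfl⟩ := Submodule.mkQ_surjective _ q
    induction z using Dieu.BC.induction_on g with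
    | zero => simp
    | add z₁ z₂ h₁ h₂ => rw [map_add]; exact add_mem h₁ h₂
    | tmul a y =>
      obtain ⟨c, hc⟩ := hgen y
      have h0 := bc_tmul_mem_smul_top g (J := 𝔪) hg hc a
      have hsum : Dieu.BC.tmul g a (∑ i, c i • x i) = ∑ i, (a * g (c i)) • Dieu.BC.tmul g 1 (x i) := by
        let φ : X →+ Dieu.BC g X := AddMonoidHom.mk' (fun u => Dieu.BC.tmul g a u) (Dieu.BC.tmul_add g a)
        show φ _ = _
        rw [map_sum]
        refine Finset.sum_congr rfl fun i _ => ?_
        show Dieu.BC.tmul g a _ = _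
        rw [← Dieu.BC.tmul_mul_apply, ← Dieu.BC.tmul_eq_smul_tmul_one]
      have he : y = (y - ∑ i, c i • x i) + ∑ i, c i • x i := (sub_add_cancel _ _).symm
      rw [he, Dieu.BC.tmul_add, map_add, show Submodule.mkQ (𝔪 • (⊤ : Submodule A (Dieu.BC g X))) _ = 0 from
        (Submodule.Quotient.mk_eq_zero _).2 h0, zero_add, hsum, map_sum]
      refine Submodule.sum_mem _ fun i _ => ?_
      rw [map_smul]
      show (Ideal.Quotient.mk 𝔪 (a * g (c i))) • v i ∈ _
      exact Submodule.smul_mem _ _ (Submodule.subset_span ⟨i, rfl⟩)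
  have := finrank_range_le_card (R := A ⧸ 𝔪) v
  rw [Set.finrank, hspan, finrank_top, Fintype.card_fin] at this
  exact this

theorem quotProd (𝔪 : Ideal A) {X Y : Type*} [AddCommGroup X] [Module A X] [AddCommGroup Y] [Module A Y] :
    Nonempty (((X × Y) ⧸ (𝔪 • (⊤ : Submodule A (X × Y)))) ≃ₗ[A ⧸ 𝔪]
      ((X ⧸ (𝔪 • (⊤ : Submodule A X))) × (Y ⧸ (𝔪 • (⊤ : Submodule A Y))))) := by
  let f : (X × Y) →ₗ[A] (X ⧸ (𝔪 • (⊤ : Submodule A X))) × (Y ⧸ (𝔪 • (⊤ : Submodule A Y))) :=
    (Submodule.mkQ _).prodMap (Submodule.mkQ _)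
  have hker : LinearMap.ker f = 𝔪 • (⊤ : Submodule A (X × Y)) := by
    refine le_antisymm (fun z hz => ?_) (Submodule.smul_le.2 fun a ha z _ => ?_)
    · simp only [f, LinearMap.mem_ker, LinearMap.prodMap_apply, Prod.mk_eq_zero, Submodule.mkQ_apply,
        Submodule.Quotient.mk_eq_zero] at hz
      have h1 := Submodule.mem_map_of_mem (f := LinearMap.inl A X Y) hz.1
      have h2 := Submodule.mem_map_of_mem (f := LinearMap.inr A X Y) hz.2
      rw [Submodule.map_smul''] at h1 h2
      have := add_mem (Submodule.smul_mono le_rfl le_top h1) (Submodule.smul_mono le_rfl le_top h2)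
      simpa using this
    · simp only [f, LinearMap.mem_ker, LinearMap.prodMap_apply, Prod.mk_eq_zero, Submodule.mkQ_apply,
        Submodule.Quotient.mk_eq_zero, Prod.smul_fst, Prod.smul_snd]
      exact ⟨Submodule.smul_mem_smul ha Submodule.mem_top, Submodule.smul_mem_smul ha Submodule.mem_top⟩
  let e := (Submodule.quotEquivOfEq _ _ hker.symm).trans (f.quotKerEquivOfSurjective
    (by rw [LinearMap.coe_prodMap]; exact Function.Surjective.prodMap (Submodule.mkQ_surjective _) (Submodule.mkQ_surjective _)))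
  exact ⟨{ LinearMap.extendScalarsOfSurjective (R := A) Ideal.Quotient.mk_surjective e.toLinearMap with
            invFun := e.symm, left_inv := e.left_inv, right_inv := e.right_inv }⟩

theorem injective_of_surjective_bc (g : A →+* A) (hg : ∀ 𝔪 : Ideal A, 𝔪.IsMaximal → ∀ a ∈ 𝔪, g a ∈ 𝔪)
    {P : Type*} [AddCommGroup P] [Module A P] [Module.Finite A P] [Module.Projective A P]
    (L T : Submodule A P) (h : IsCompl L T)
    (Φ : Dieu.BC g L × Dieu.BC g T →ₗ[A] P) (hΦ : Function.Surjective Φ) : Function.Injective Φ := by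
  have hL : Module.Finite A L := Module.Finite.of_surjective (L.projectionOnto T h) (Submodule.projectionOnto_surjective h)
  have hT : Module.Finite A T := Module.Finite.of_surjective (T.projectionOnto L h.symm) (Submodule.projectionOnto_surjective h.symm)
  have := bc_finite g (P := L); have := bc_finite g (P := T)
  obtain ⟨s, hs⟩ := Module.projective_lifting_property Φ LinearMap.id hΦ
  let q : Dieu.BC g L × Dieu.BC g T →ₗ[A] Dieu.BC g L × Dieu.BC g T := LinearMap.id - s.comp Φ
  have hΦq : ∀ x, Φ (q x) = 0 := fun x => by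
    simp only [q, LinearMap.sub_apply, map_sub, LinearMap.id_apply, LinearMap.comp_apply]
    rw [show Φ (s (Φ x)) = Φ x from LinearMap.congr_fun hs (Φ x), sub_self]
  have hqker : LinearMap.range q = LinearMap.ker Φ := by
    refine le_antisymm ?_ fun x hx => ⟨x, by simp [q, LinearMap.mem_ker.1 hx]⟩
    rintro _ ⟨x, rfl⟩
    exact hΦq x
  rw [← LinearMap.ker_eq_bot, ← hqker]
  set K := LinearMap.range q
  have hKfg : K.FG := by
    rw [show K = Submodule.map q ⊤ from (Submodule.map_top q).symm]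
    exact Module.Finite.fg_top.map q
  refine Submodule.eq_bot_iff K |>.2 fun x hx => ?_
  by_contra hx0
  have hann : (Submodule.span A {x}).annihilator ≠ ⊤ := fun htop => hx0 (by
    rw [Submodule.annihilator_eq_top_iff, Submodule.span_singleton_eq_bot] at htop; exact htop)
  obtain ⟨𝔪, hm, hle⟩ := Ideal.exists_le_maximal _ hann
  let _ := Ideal.Quotient.field 𝔪
  have hK : K ≤ 𝔪 • K := by
    let Φb : ((Dieu.BC g L × Dieu.BC g T) ⧸ (𝔪 • (⊤ : Submodule A (Dieu.BC g L × Dieu.BC g T)))) →ₗ[A ⧸ 𝔪] (P ⧸ (𝔪 • (⊤ : Submodule A P))) :=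
      LinearMap.extendScalarsOfSurjective (R := A) Ideal.Quotient.mk_surjective
        (Submodule.mapQ _ _ Φ (by
          rw [← Submodule.map_le_iff_le_comap, Submodule.map_smul'']
          exact Submodule.smul_mono le_rfl le_top))
    have hfinP : Module.Finite (A ⧸ 𝔪) (P ⧸ (𝔪 • (⊤ : Submodule A P))) := Module.Finite.of_restrictScalars_finite A _ _
    have hfinE : Module.Finite (A ⧸ 𝔪) ((Dieu.BC g L × Dieu.BC g T) ⧸ (𝔪 • (⊤ : Submodule A (Dieu.BC g L × Dieu.BC g T)))) := Module.Finite.of_restrictScalars_finite A _ _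
    have hsurj : Function.Surjective Φb := fun y => by
      obtain ⟨z, rfl⟩ := Submodule.mkQ_surjective _ y
      obtain ⟨e, rfl⟩ := hΦ z
      exact ⟨Submodule.Quotient.mk e, rfl⟩
    have hle' : Module.finrank (A ⧸ 𝔪) ((Dieu.BC g L × Dieu.BC g T) ⧸ (𝔪 • (⊤ : Submodule A (Dieu.BC g L × Dieu.BC g T)))) ≤
        Module.finrank (A ⧸ 𝔪) (P ⧸ (𝔪 • (⊤ : Submodule A P))) := by
      obtain ⟨e1⟩ := quotProd 𝔪 (X := Dieu.BC g L) (Y := Dieu.BC g T)
      obtain ⟨e2⟩ := quotProd 𝔪 (X := L) (Y := T)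
      have e3 : ((L × T) ⧸ (𝔪 • (⊤ : Submodule A (L × T)))) ≃ₗ[A] (P ⧸ (𝔪 • (⊤ : Submodule A P))) :=
        Submodule.Quotient.equiv _ _ (Submodule.prodEquivOfIsCompl L T h) (by
          rw [Submodule.map_smul'', Submodule.map_top, LinearEquiv.range])
      let e4 : ((L × T) ⧸ (𝔪 • (⊤ : Submodule A (L × T)))) ≃ₗ[A ⧸ 𝔪] (P ⧸ (𝔪 • (⊤ : Submodule A P))) :=
        { LinearMap.extendScalarsOfSurjective (R := A) Ideal.Quotient.mk_surjective e3.toLinearMap with
          invFun := e3.symm, left_inv := e3.left_inv, right_inv := e3.right_inv }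
      have : Module.Finite (A ⧸ 𝔪) (L ⧸ (𝔪 • (⊤ : Submodule A L))) := Module.Finite.of_restrictScalars_finite A _ _
      have : Module.Finite (A ⧸ 𝔪) (T ⧸ (𝔪 • (⊤ : Submodule A T))) := Module.Finite.of_restrictScalars_finite A _ _
      have : Module.Finite (A ⧸ 𝔪) (Dieu.BC g L ⧸ (𝔪 • (⊤ : Submodule A (Dieu.BC g L)))) := Module.Finite.of_restrictScalars_finite A _ _
      have : Module.Finite (A ⧸ 𝔪) (Dieu.BC g T ⧸ (𝔪 • (⊤ : Submodule A (Dieu.BC g T)))) := Module.Finite.of_restrictScalars_finite A _ _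
      rw [e1.finrank_eq, Module.finrank_prod, ← e4.finrank_eq, e2.finrank_eq, Module.finrank_prod]
      exact add_le_add (finrank_bc_quot_le g 𝔪 (hg 𝔪 hm)) (finrank_bc_quot_le g 𝔪 (hg 𝔪 hm))
    have hinj : Function.Injective Φb := by
      refine (LinearMap.injective_iff_surjective_of_finrank_eq_finrank ?_).2 hsurj
      exact le_antisymm hle' (LinearMap.finrank_le_finrank_of_surjective hsurj)
    rintro y hy
    have hy0 : Φ y = 0 := (hqker ▸ hy : y ∈ LinearMap.ker Φ)
    have : (Submodule.Quotient.mk y : (Dieu.BC g L × Dieu.BC g T) ⧸ (𝔪 • (⊤ : Submodule A (Dieu.BC g L × Dieu.BC g T)))) = 0 := hinj (by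
      rw [map_zero]
      show (Submodule.Quotient.mk (Φ y) : P ⧸ _) = 0
      rw [hy0]; rfl)
    rw [Submodule.Quotient.mk_eq_zero] at this
    have h2 := Submodule.mem_map_of_mem (f := q) this
    rw [Submodule.map_smul'', Submodule.map_top] at h2
    rwa [show q y = y by simp [q, hy0]] at h2
  obtain ⟨r, hr1, hr⟩ := Submodule.exists_sub_one_mem_and_smul_eq_zero_of_fg_of_le_smul 𝔪 K hKfg hK
  have hr' : r ∈ 𝔪 := hle (by rw [Submodule.mem_annihilator_span_singleton]; exact hr x hx)
  exact hm.ne_top ((Ideal.eq_top_iff_one _).2 (by simpa using sub_mem hr' hr1))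

variable {p : ℕ} [hp : Fact p.Prime] {R : Type*} [CommRing R]

theorem frobenius_mem_of_isMaximal [IsAdicComplete (Ideal.span {(p : R)}) R] (𝔪 : Ideal (WittVector p R))
    (hm : 𝔪.IsMaximal) {a : WittVector p R} (ha : a ∈ 𝔪) :
    (WittVector.frobenius : WittVector p R →+* WittVector p R) a ∈ 𝔪 := by
  have hJ : IV p R ⊔ Ideal.span {(p : WittVector p R)} ≤ 𝔪 :=
    (sup_le IV_le_jacobson span_p_le_jacobson).trans (sInf_le ⟨bot_le, hm⟩)
  obtain ⟨c, hc⟩ : ∃ c, (WittVector.frobenius a).coeff 0 = a.coeff 0 ^ p + (p : R) * c := by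
    refine ⟨MvPolynomial.aeval a.coeff (WittVector.frobeniusPolyAux p 0), ?_⟩
    rw [WittVector.coeff_frobenius, WittVector.frobeniusPoly]
    simp only [map_add, map_pow, map_mul, MvPolynomial.aeval_X, MvPolynomial.aeval_C]
    rw [map_natCast]
  have h : (WittVector.frobenius a - a ^ p - (p : WittVector p R) * WittVector.teichmuller p c) ∈ IV p R := by
    rw [IV_eq_ker, RingHom.mem_ker, map_sub, map_sub, map_mul, map_pow, map_natCast]
    show (WittVector.frobenius a).coeff 0 - a.coeff 0 ^ p - (p : R) * (WittVector.teichmuller p c).coeff 0 = 0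
    rw [WittVector.teichmuller_coeff_zero, hc]; ring
  have h2 := add_mem (add_mem (hJ (Ideal.mem_sup_left h))
    (hJ (Ideal.mem_sup_right (Ideal.mul_mem_right (WittVector.teichmuller p c) _ (Ideal.mem_span_singleton_self _)))))
    (𝔪.pow_mem_of_mem ha p hp.out.pos)
  simpa using h2

variable {P : Type*} [AddCommGroup P] [Module (WittVector p R) P] (D : Display3n p R P)

theorem phi_injective [IsAdicComplete (Ideal.span {(p : R)}) R] {L T : Submodule (WittVector p R) P}
    (h : IsCompl L T) (hQ : D.Q = L ⊔ IV p R • T) : Function.Injective (phi D hQ) := by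
  have := D.finite; have := D.projective
  exact injective_of_surjective_bc _ (fun 𝔪 hm a ha => frobenius_mem_of_isMaximal 𝔪 hm ha) L T h _
    (phi_surjective D hQ)

theorem vSharp_unique {Vs Vs' : P →ₗ[WittVector p R] Dieu.BC (WittVector.frobenius : WittVector p R →+* WittVector p R) P}
    (h : Dieu.IsVSharp D Vs) (h' : Dieu.IsVSharp D Vs') : Vs = Vs' :=
  ext_Vinv D fun y => by
    have a := h.app_smul_Vinv 1 y; have b := h'.app_smul_Vinv 1 y
    rw [one_smul] at a b
    rw [a, b]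

theorem exists_vSharp [IsAdicComplete (Ideal.span {(p : R)}) R] : ∃ Vs, Dieu.IsVSharp D Vs := by
  obtain ⟨L, T, h, hQ⟩ := D.exists_normal
  set σ : WittVector p R →+* WittVector p R := WittVector.frobenius with hσ
  let e := LinearEquiv.ofBijective (phi D hQ) ⟨phi_injective D h hQ, phi_surjective D hQ⟩
  let G : Dieu.BC σ L × Dieu.BC σ T →ₗ[WittVector p R] Dieu.BC σ P :=
    (Dieu.BC.map σ L.subtype).coprod ((p : WittVector p R) • Dieu.BC.map σ T.subtype)
  let Vs := G.comp e.symm.toLinearMap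
  have hVs : ∀ z, Vs (phi D hQ z) = G z := fun z => congrArg G (e.symm_apply_apply z)
  have hVy : ∀ y : D.Q, Vs (D.Vinv y) = Dieu.BC.tmul σ 1 (y : P) := by
    intro y
    induction y using Q_induction D hQ with
    | left l hl =>
      have := hVs (Dieu.BC.tmul σ 1 (⟨l, hl⟩ : L), 0)
      rw [phi_inl, one_smul] at this
      simpa [G] using this
    | right w t ht =>
      have := hVs (0, Dieu.BC.tmul σ w (⟨t, ht⟩ : T))
      rw [phi_inr] at this
      rw [D.Vinv_verschiebung_smul, this, ← Dieu.BC.tmul_apply_eq, show σ (WittVector.verschiebung w) = _ from frobenius_verschiebung_mul w]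
      simp [G]
    | add a b ha hb => rw [map_add, map_add, ha, hb, Submodule.coe_add, Dieu.BC.tmul_add]
  refine ⟨Vs, ⟨fun w x => ?_, fun w y => ?_⟩⟩
  · have h1 : WittVector.verschiebung (1 : WittVector p R) • x ∈ D.Q :=
      D.IV_smul_le (Submodule.smul_mem_smul (verschiebung_mem_IV p R _) Submodule.mem_top)
    rw [map_smul, ← Vinv_one_smul D x h1, hVy, ← Dieu.BC.tmul_apply_eq, frobenius_verschiebung_mul, mul_one,
      Dieu.BC.smul_tmul, Dieu.BC.smul_tmul, mul_comm]
  · rw [map_smul, hVy, Dieu.BC.smul_tmul, mul_one]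

end Groth.Agent.DispLib
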