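import Groth.Agent.DispLib.IV
import Groth.Agent.WittFil.Teich
import Mathlib.RingTheory.WittVector.InitTail
import Mathlib.RingTheory.WittVector.Teichmuller
import Mathlib.RingTheory.WittVector.Identities
import Mathlib.Algebra.TrivSqZeroExt.Basic

/-! Witt vectors with coefficients in a square-zero ideal. -/

namespace Groth.Agent.DispLib

open W4c1extbt610

universe u

variable {p : ℕ} [hp : Fact p.Prime] {R : Type u} [CommRing R]

local notation "W" => WittVector p R

/-- ghost components detect zero in a `p`-torsion-free ring -/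
theorem eq_zero_of_ghostComponent_eq_zero {T : Type*} [CommRing T]
    (hT : ∀ t : T, (p : T) * t = 0 → t = 0) {x : WittVector p T}
    (hx : ∀ n, WittVector.ghostComponent n x = 0) : x = 0 := by
  have hpow : ∀ (n : ℕ) (t : T), (p : T) ^ n * t = 0 → t = 0 := by
    intro n
    induction n with
    | zero => intro t ht; simpa using ht
    | succ n ih => intro t ht; exact ih t (hT _ (by rw [← mul_assoc, ← pow_succ']; exact ht))
  ext n
  rw [WittVector.zero_coeff]
  induction n using Nat.strong_induction_on with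
  | h n ih =>
    have := hx n
    rw [WittVector.ghostComponent_apply, aeval_wittPolynomial,
      Finset.sum_eq_single n (fun i hi hin => ?_) (fun h => absurd (Finset.self_mem_range_succ n) h)] at this
    · simpa using hpow n _ (by simpa using this)
    · rw [ih i (by simp at hi; omega), zero_pow (pow_ne_zero _ hp.out.ne_zero), mul_zero]

/-- Teichmüller representatives are additive on square-zero elements. -/
theorem teichmuller_add_of_sq_eq_zero {a b : R} (haa : a * a = 0) (hab : a * b = 0) (hbb : b * b = 0) :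
    WittVector.teichmuller p (a + b) = WittVector.teichmuller p a + WittVector.teichmuller p b := by
  let T := TrivSqZeroExt ℤ (ℤ × ℤ)
  let A : T := TrivSqZeroExt.inr ((1 : ℤ), (0 : ℤ))
  let B : T := TrivSqZeroExt.inr ((0 : ℤ), (1 : ℤ))
  let l : ℤ × ℤ →ₗ[ℤ] R := (LinearMap.toSpanSingleton ℤ R a).coprod (LinearMap.toSpanSingleton ℤ R b)
  have hl : ∀ x y : ℤ × ℤ, l x * l y = 0 := by
    intro x y
    have hba : b * a = 0 := by rw [mul_comm]; exact hab
    show (x.1 • a + x.2 • b) * (y.1 • a + y.2 • b) = 0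
    simp only [zsmul_eq_mul]
    linear_combination ((x.1 : R) * y.1) * haa + ((x.1 : R) * y.2) * hab + ((x.2 : R) * y.1) * hba
      + ((x.2 : R) * y.2) * hbb
  let φ : T →+* R := (TrivSqZeroExt.lift (Algebra.ofId ℤ R) l hl
    (fun r x => by rw [map_smul, Algebra.ofId_apply, Algebra.smul_def])
    (fun r x => by rw [op_smul_eq_smul, map_smul, Algebra.ofId_apply, Algebra.smul_def, mul_comm])).toRingHom
  have hA : φ A = a := by
    show TrivSqZeroExt.lift _ _ _ _ _ (TrivSqZeroExt.inr ((1 : ℤ), (0 : ℤ))) = a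
    rw [TrivSqZeroExt.lift_apply_inr]
    show (1 : ℤ) • a + (0 : ℤ) • b = a
    simp
  have hB : φ B = b := by
    show TrivSqZeroExt.lift _ _ _ _ _ (TrivSqZeroExt.inr ((0 : ℤ), (1 : ℤ))) = b
    rw [TrivSqZeroExt.lift_apply_inr]
    show (0 : ℤ) • a + (1 : ℤ) • b = b
    simp
  have hT : ∀ t : T, (p : T) * t = 0 → t = 0 := by
    intro t ht
    have hp0 : (p : ℤ) ≠ 0 := by simp [hp.out.ne_zero]
    rw [← nsmul_eq_mul] at ht
    refine TrivSqZeroExt.ext ?_ ?_
    · have h2 : p • t.fst = 0 := by rw [← TrivSqZeroExt.fst_smul, ht, TrivSqZeroExt.fst_zero]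
      simpa using (smul_eq_zero.1 h2).resolve_left hp.out.ne_zero
    · have h2 : p • t.snd = 0 := by rw [← TrivSqZeroExt.snd_smul, ht, TrivSqZeroExt.snd_zero]
      simpa using (smul_eq_zero.1 h2).resolve_left hp.out.ne_zero
  have key : WittVector.teichmuller p (A + B) = WittVector.teichmuller p A + WittVector.teichmuller p B := by
    refine sub_eq_zero.1 (eq_zero_of_ghostComponent_eq_zero hT fun n => ?_)
    rw [map_sub (WittVector.ghostComponent n), map_add (WittVector.ghostComponent n), WittVector.ghostComponent_teichmuller, WittVector.ghostComponent_teichmuller,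
      WittVector.ghostComponent_teichmuller]
    rcases n with _ | n
    · simp
    · have h2 : 2 ≤ p ^ (n + 1) := hp.out.two_le.trans (Nat.le_self_pow (by omega) p)
      have hz : ∀ t : T, t.fst = 0 → t ^ p ^ (n + 1) = 0 := fun t ht => by
        obtain ⟨k, hk⟩ := Nat.exists_eq_add_of_le h2
        rw [hk, pow_add, pow_two]
        have : t = TrivSqZeroExt.inr t.snd := TrivSqZeroExt.ext (by simpa using ht) (by simp)
        rw [this, TrivSqZeroExt.inr_mul_inr, zero_mul]
      rw [hz (A + B) (by rw [TrivSqZeroExt.fst_add]; simp [A, B]), hz A (by simp [A]), hz B (by simp [B])]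
      simp
  have := congrArg (WittVector.map φ) key
  rwa [map_add (WittVector.map φ), WittVector.map_teichmuller, WittVector.map_teichmuller, WittVector.map_teichmuller,
    map_add φ, hA, hB] at this

/-- drop the zeroth coefficient -/
noncomputable def wshift (x : W) : W := WittVector.mk p fun n => x.coeff (n + 1)

theorem wshift_coeff (x : W) (n : ℕ) : (wshift x).coeff n = x.coeff (n + 1) := rfl

theorem teich_add_verschiebung_wshift (x : W) :
    WittVector.teichmuller p (x.coeff 0) + WittVector.verschiebung (wshift x) = x := by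
  ext n
  rw [WittVector.coeff_add_of_disjoint]
  · rcases n with _ | n
    · simp [WittVector.teichmuller_coeff_zero, WittVector.verschiebung_coeff_zero]
    · simp [WittVector.teichmuller_coeff_pos, WittVector.verschiebung_coeff_succ, wshift_coeff]
  · intro m
    rcases m with _ | m
    · exact Or.inr (WittVector.verschiebung_coeff_zero _)
    · exact Or.inl (WittVector.teichmuller_coeff_pos p _ _ m.succ_pos)

theorem wshift_eq_of {x u : W} {a : R} (h : x = WittVector.teichmuller p a + WittVector.verschiebung u) :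
    wshift x = u := by
  have h0 : x.coeff 0 = a := by
    rw [h, ← WittVector.constantCoeff_apply, map_add]
    simp [WittVector.constantCoeff_apply, WittVector.teichmuller_coeff_zero]
  refine WittVector.verschiebung_injective p R (add_left_cancel (a := WittVector.teichmuller p a) ?_)
  rw [← h]
  conv_lhs => rw [← h0]
  exact teich_add_verschiebung_wshift x

theorem wshift_verschiebung (u : W) : wshift (WittVector.verschiebung u) = u :=
  wshift_eq_of (a := 0) (by simp)

theorem mul_teichmuller_of_pow_eq_zero {a : R} (ha : a ^ p = 0) (w : W) :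
    w * WittVector.teichmuller p a = WittVector.teichmuller p (w.coeff 0 * a) := by
  conv_lhs => rw [← teich_add_verschiebung_wshift w]
  have hσ : WittVector.frobenius (WittVector.teichmuller p a) = 0 := by
    have : WittVector.frobenius (WittVector.teichmuller p a) = WittVector.teichmuller p (a ^ p) := by
      exact WittFil.Teich.frobenius_teichmuller a
    rw [this, ha, WittVector.teichmuller_zero]
  rw [add_mul, ← map_mul (WittVector.teichmuller p), ← WittVector.verschiebung_mul_frobenius, hσ, mul_zero,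
    map_zero, add_zero]

/-- coefficients in `𝔞` -/
def WIn (𝔞 : Ideal R) (x : W) : Prop := ∀ n, x.coeff n ∈ 𝔞

theorem wIn_iff_map_eq_zero (𝔞 : Ideal R) (x : W) :
    WIn 𝔞 x ↔ WittVector.map (Ideal.Quotient.mk 𝔞) x = 0 := by
  constructor
  · exact fun h => WittVector.ext fun n => by
      rw [WittVector.map_coeff, WittVector.zero_coeff, Ideal.Quotient.eq_zero_iff_mem]; exact h n
  · intro h n
    rw [← Ideal.Quotient.eq_zero_iff_mem, ← WittVector.map_coeff, h, WittVector.zero_coeff]

/-- `W(𝔞)` -/
noncomputable def wIdeal (p : ℕ) [Fact p.Prime] {R : Type u} [CommRing R] (𝔞 : Ideal R) :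
    Ideal (WittVector p R) :=
  RingHom.ker (WittVector.map (Ideal.Quotient.mk 𝔞) : WittVector p R →+* WittVector p (R ⧸ 𝔞))

theorem mem_wIdeal {𝔞 : Ideal R} {x : W} : x ∈ wIdeal p 𝔞 ↔ ∀ n, x.coeff n ∈ 𝔞 :=
  RingHom.mem_ker.trans (wIn_iff_map_eq_zero 𝔞 x).symm

section SqZero

variable {𝔞 : Ideal R} (h2 : ∀ a ∈ 𝔞, ∀ b ∈ 𝔞, a * b = 0)

theorem wshift_mem {x : W} (hx : x ∈ wIdeal p 𝔞) : wshift x ∈ wIdeal p 𝔞 :=
  mem_wIdeal.2 fun n => mem_wIdeal.1 hx (n + 1)

include h2

theorem pow_p_eq_zero {a : R} (ha : a ∈ 𝔞) : a ^ p = 0 := by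
  obtain ⟨k, hk⟩ := Nat.exists_eq_add_of_le hp.out.two_le
  rw [hk, pow_add, pow_two, h2 a ha a ha, zero_mul]

theorem wshift_add {x y : W} (hx : x ∈ wIdeal p 𝔞) (hy : y ∈ wIdeal p 𝔞) :
    wshift (x + y) = wshift x + wshift y := by
  refine wshift_eq_of (a := x.coeff 0 + y.coeff 0) ?_
  have hx0 := mem_wIdeal.1 hx 0
  have hy0 := mem_wIdeal.1 hy 0
  rw [teichmuller_add_of_sq_eq_zero (h2 _ hx0 _ hx0) (h2 _ hx0 _ hy0) (h2 _ hy0 _ hy0), map_add]
  conv_lhs => rw [← teich_add_verschiebung_wshift x, ← teich_add_verschiebung_wshift y]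
  abel

theorem wshift_mul (w : W) {x : W} (hx : x ∈ wIdeal p 𝔞) :
    wshift (w * x) = WittVector.frobenius w * wshift x := by
  refine wshift_eq_of (a := w.coeff 0 * x.coeff 0) ?_
  conv_lhs => rw [← teich_add_verschiebung_wshift x]
  rw [mul_add, mul_teichmuller_of_pow_eq_zero (pow_p_eq_zero h2 (mem_wIdeal.1 hx 0)), mul_comm w,
    ← WittVector.verschiebung_mul_frobenius, mul_comm (wshift x)]

variable (hpa : ∀ a ∈ 𝔞, (p : R) * a = 0)
include hpa

theorem natCast_mul_eq_zero {x : W} (hx : x ∈ wIdeal p 𝔞) : (p : W) * x = 0 := by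
  ext n
  rw [WittVector.zero_coeff]
  induction n generalizing x with
  | zero =>
    rw [← WittVector.constantCoeff_apply, map_mul, map_natCast]
    exact hpa _ (mem_wIdeal.1 hx 0)
  | succ n ih =>
    conv_lhs => rw [← teich_add_verschiebung_wshift x]
    rw [mul_add, mul_teichmuller_of_pow_eq_zero (pow_p_eq_zero h2 (mem_wIdeal.1 hx 0)),
      ← WittVector.constantCoeff_apply, map_natCast, hpa _ (mem_wIdeal.1 hx 0), WittVector.teichmuller_zero,
      zero_add, mul_comm, ← map_natCast (WittVector.frobenius : W →+* W) p,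
      ← WittVector.verschiebung_mul_frobenius, map_natCast, map_natCast, WittVector.verschiebung_coeff_succ,
      mul_comm]
    exact ih (wshift_mem hx)

theorem frobenius_eq_zero {x : W} (hx : x ∈ wIdeal p 𝔞) : WittVector.frobenius x = 0 := by
  conv_lhs => rw [← teich_add_verschiebung_wshift x]
  rw [map_add, WittVector.frobenius_verschiebung, mul_comm, natCast_mul_eq_zero h2 hpa (wshift_mem hx), add_zero,
    WittFil.Teich.frobenius_teichmuller, pow_p_eq_zero h2 (mem_wIdeal.1 hx 0), WittVector.teichmuller_zero]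

theorem mul_eq_zero_of_mem {a x : W} (ha : a ∈ IV p R ⊔ Ideal.span {(p : W)}) (hx : x ∈ wIdeal p 𝔞) :
    a * x = 0 := by
  obtain ⟨u, hu, v, hv, rfl⟩ := Submodule.mem_sup.1 ha
  obtain ⟨u', rfl⟩ := mem_IV_iff.1 hu
  obtain ⟨v', rfl⟩ := Ideal.mem_span_singleton'.1 hv
  rw [add_mul, ← WittVector.verschiebung_mul_frobenius, frobenius_eq_zero h2 hpa hx, mul_zero, map_zero,
    zero_add, mul_assoc, natCast_mul_eq_zero h2 hpa hx, mul_zero]

end SqZero

end Groth.Agent.DispLib
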